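import Groth.Agent.UFO.SmoothLift
import Groth.Agent.AlgSpLib.Covers
import Mathlib.AlgebraicGeometry.Morphisms.Flat

/-!
# Formal smoothness of morphisms of spaces is fpqc local on the base and etale local on the source
-/

set_option autoImplicit false
set_option backward.isDefEq.respectTransparency false
set_option backward.isDefEq.respectTransparency.types false

universe u

open CategoryTheory CategoryTheory.Limits AlgebraicGeometry Opposite AlgSp

namespace Groth.Agent.UFO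

open Groth.Agent.AlgSpLib

variable {S : Scheme.{u}}

/-- A flat affine scheme over `Spec A` is the scheme of a flat algebra. -/
theorem exists_algebra_of_affine {A : Type u} [CommRing A] {str : Spec (CommRingCat.of A) ⟶ S} {W : Over S}
    [IsAffine W.left] (c : W ⟶ Over.mk str) [Flat c.left] :
    ∃ (B : Type u) (_ : CommRing B) (_ : Algebra A B) (e : (yon S).obj (tOb str B) ≅ (yon S).obj W),
      Module.Flat A B ∧ e.hom ≫ (yon S).map c = tBase str B ∧
        ∀ z : W.left, ∃ q : PrimeSpectrum B, PrimeSpectrum.comap (algebraMap A B) q = c.left z := by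
  let B : CommRingCat.{u} := Γ(W.left, ⊤)
  let i : Spec B ≅ W.left := W.left.isoSpec.symm
  obtain ⟨φ, hφ⟩ := Spec.map_surjective (i.hom ≫ c.left : Spec B ⟶ Spec (CommRingCat.of A))
  algebraize [φ.hom]
  have hφ' : Spec.map (CommRingCat.ofHom (algebraMap A B)) = i.hom ≫ c.left := hφ
  let o : tOb str B ≅ W := Over.isoMk i (by
    change i.hom ≫ W.hom = Spec.map _ ≫ str
    rw [hφ', Category.assoc]
    exact congrArg (i.hom ≫ ·) (Over.w c).symm)
  refine ⟨B, inferInstance, inferInstance, (yon S).mapIso o, ?_, ?_, fun z => ⟨i.inv z, ?_⟩⟩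
  · have h : Flat (Spec.map φ) := by rw [hφ]; infer_instance
    exact (HasRingHomProperty.Spec_iff (P := @Flat)).1 h
  · exact ((yon S).map_comp _ _).symm.trans
      (congrArg (fun k => (yon S).map k) (Over.OverMorphism.ext hφ'.symm))
  · change Spec.map (CommRingCat.ofHom (algebraMap A B)) (i.inv z) = c.left z
    rw [hφ', Scheme.Hom.comp_apply]
    exact congrArg c.left (congrArg (fun k : W.left ⟶ W.left => k z) i.inv_hom_id)

/-- Formal smoothness descends along fpqc coverings of the base. -/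
theorem isFormallySmoothMor_of_fpqc_base {ι : Type u} {X Y : Sp S} (hX : IsAlgSpace X) (hY : IsAlgSpace Y)
    (Yi : ι → Sp S) (g : ∀ i, Yi i ⟶ Y) (hg : IsFpqcCover Yi g) (f : X ⟶ Y) (Xi : ι → Sp S)
    (p : ∀ i, Xi i ⟶ Yi i) (q : ∀ i, Xi i ⟶ X) (sqP : ∀ i, IsPullback (q i) (p i) f (g i))
    (hp : ∀ i, IsFormallySmoothMor (p i)) : IsFormallySmoothMor f := by
  intro sq
  obtain ⟨n, W, c, hWa, hcf, hcs, hl⟩ := hg.2 sq.ptT' (inferInstanceAs (IsAffine (Spec _))) sq.bot
  have hB := fun j => @exists_algebra_of_affine S sq.A _ sq.str (W j) (hWa j) (c j) (hcf j)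
  choose B _ _ e hBf he hBs using hB
  choose i l hil using hl
  refine hasLift_of_family hX hY sq B (fun x => ?_) fun j D _ _ ν J J' hJ hJ' _ l₀ hl₀ _ => ?_
  · obtain ⟨j, z, hz⟩ := hcs x
    obtain ⟨y, hy⟩ := hBs j z
    exact ⟨j, y, hy.trans hz⟩
  let β : (yon S).obj (tOb sq.str D) ⟶ Yi (i j) := tMap sq.str ν ≫ (e j).hom ≫ l j
  have hβ : β ≫ g (i j) = tBase sq.str D ≫ sq.bot := by
    simp only [β, Category.assoc, hil]
    rw [reassoc_of% (he j), ← Category.assoc, tMap_base]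
  obtain ⟨m, hm, hm'⟩ := (sqP (i j)).exists_lift l₀ (tMap sq.str (Ideal.Quotient.mkₐ sq.A J) ≫ β)
    (by rw [hl₀, Category.assoc, hβ, ← Category.assoc, tMap_base])
  have hJJ : J ^ 2 = ⊥ := eq_bot_iff.2 ((Ideal.pow_right_mono hJ 2).trans hJ'.le)
  obtain ⟨L, hL₁, hL₂⟩ := exists_lift_tMap sq.str (hp (i j)) J hJJ m β hm'
  exact ⟨L ≫ q (i j), by rw [reassoc_of% hL₁, hm], by rw [Category.assoc, (sqP (i j)).w, reassoc_of% hL₂, hβ]⟩

/-- An affine scheme with an etale surjection from a scheme is covered by finitely many affine opens of it. -/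
theorem exists_finite_affine_cover {V T : Scheme.{u}} [CompactSpace T] (b : V ⟶ T) [Etale b] [Surjective b] :
    ∃ (n : ℕ) (O : Fin n → V.Opens), (∀ j, IsAffineOpen (O j)) ∧ ∀ t : T, ∃ j v, v ∈ O j ∧ b v = t := by
  have hO : ∀ t : T, ∃ O : V.Opens, IsAffineOpen O ∧ ∃ v ∈ O, b v = t := fun t => by
    obtain ⟨v, hv⟩ := b.surjective t
    obtain ⟨O, hO, hvO, -⟩ := exists_isAffineOpen_mem_and_subset (U := (⊤ : V.Opens)) (x := v) trivial
    exact ⟨O, hO, v, hvO, hv⟩
  choose O hO v hvO hv using hO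
  obtain ⟨s, hs⟩ := isCompact_univ.elim_finite_subcover (fun t => b '' (O t : Set V))
    (fun t => b.isOpenMap _ (O t).isOpen) (fun t _ => Set.mem_iUnion.2 ⟨t, v t, hvO t, hv t⟩)
  refine ⟨s.card, fun j => O (s.equivFin.symm j), fun j => hO _, fun t => ?_⟩
  obtain ⟨k, hk, w, hw, hwt⟩ := Set.mem_iUnion₂.1 (hs (Set.mem_univ t))
  exact ⟨s.equivFin ⟨k, hk⟩, w, by simpa using hw, hwt⟩

/-- Formal smoothness is etale local on the source. -/
theorem isFormallySmoothMor_of_etale_source {X Y U : Sp S} (hX : IsAlgSpace X) (hY : IsAlgSpace Y) {a : U ⟶ X}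
    (ha : RepWith @Etale a) (ha' : RepWith @Surjective a) {f : X ⟶ Y} (h : IsFormallySmoothMor (a ≫ f)) :
    IsFormallySmoothMor f := by
  intro sq
  let T₀ := ha.rep.pullback sq.top
  let p₀ : T₀ ⟶ sq.ptT := ha.rep.snd sq.top
  have hp₀ : Etale p₀.left := ha.property_snd sq.top
  have hp₀s : Surjective p₀.left := ha'.property _ _ _ (ha.rep.isPullback sq.top)
  have hj : IsThickMor ((yon S).map sq.j) := (isThickMor_yon_map_iff sq.j).2
    (MorLib.isFirstOrderThickening_quotientMk sq.A sq.I sq.sq_zero).1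
  obtain ⟨V, b, ε, hb, hε⟩ := EtLift.exists_lift (IsAlgSpace.yon_obj _) (IsAlgSpace.yon_obj sq.ptT') hj
    ((yon S).map p₀) ((repWith_yon_map_iff _ p₀).2 hp₀)
  obtain ⟨b, rfl⟩ := (yon S).map_surjective b
  obtain ⟨jV, hjV⟩ := (yon S).map_surjective (ε.hom ≫ pullback.snd ((yon S).map sq.j) ((yon S).map b))
  have wV : jV ≫ b = p₀ ≫ sq.j := (yon S).map_injective (by
    rw [Functor.map_comp, Functor.map_comp, hjV, Category.assoc, ← pullback.condition, ← Category.assoc, hε])
  have : Etale b.left := (repWith_yon_map_iff _ b).1 hb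
  have : Surjective sq.j.left := ((isThickMor_yon_map_iff sq.j).1 hj).2
  have : Surjective b.left := ⟨fun t => by
    obtain ⟨t₀, rfl⟩ := sq.j.left.surjective t
    obtain ⟨x, rfl⟩ := p₀.left.surjective t₀
    exact ⟨jV.left x, by rw [← Scheme.Hom.comp_apply, ← Over.comp_left, wV]; rfl⟩⟩
  have : IsAffine sq.ptT'.left := inferInstanceAs (IsAffine (Spec _))
  obtain ⟨n, O, hOa, hOs⟩ := exists_finite_affine_cover b.left
  let W : Fin n → Over S := fun j => Over.mk ((O j).ι ≫ V.hom)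
  let o : ∀ j, W j ⟶ V := fun j => Over.homMk (O j).ι rfl
  have : ∀ j, Etale (o j).left := fun j => inferInstanceAs (Etale (O j).ι)
  have hWa : ∀ j, IsAffine (W j).left := fun j => hOa j
  have hBx := fun j => @exists_algebra_of_affine S sq.A _ sq.str (W j) (hWa j) (o j ≫ b)
    (inferInstanceAs (Flat ((o j).left ≫ b.left)))
  choose B _ _ e hBf he hBs using hBx
  refine hasLift_of_family hX hY sq B (fun x => ?_) fun j D _ _ ν J J' hJ hJ' α l₀ hl₀ hres => ?_
  · obtain ⟨j, v, hvO, hv⟩ := hOs x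
    obtain ⟨y, hy⟩ := hBs j ⟨v, hvO⟩
    exact ⟨j, y, hy.trans hv⟩
  -- the top arrow over `D ⧸ J'` lifts to `U`
  let ν' : B j →ₐ[sq.A] D ⧸ J' := (Ideal.Quotient.mkₐ sq.A J').comp ν
  obtain ⟨y, hy₁, hy₂⟩ := (IsPullback.of_hasPullback ((yon S).map sq.j) ((yon S).map b)).exists_lift
    (tMap sq.str α) (tMap sq.str ν' ≫ (e j).hom ≫ (yon S).map (o j))
    (by
      rw [Category.assoc, Category.assoc, ← (yon S).map_comp, he j, tMap_base]
      exact tMap_base sq.str α)
  let u₀ : (yon S).obj (tOb sq.str (D ⧸ J')) ⟶ U := y ≫ ε.inv ≫ ha.rep.fst sq.top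
  have hu₀ : u₀ ≫ a = tMap sq.str α ≫ sq.top := by
    simp only [u₀, Category.assoc, ha.rep.w sq.top]
    change y ≫ ε.inv ≫ (yon S).map p₀ ≫ sq.top = _
    rw [← hε, Category.assoc, ε.inv_hom_id_assoc, reassoc_of% hy₁]
  have hJ2 : RingHom.ker (Ideal.Quotient.factorₐ sq.A hJ) ^ 2 = ⊥ := by
    refine eq_bot_iff.2 ((Ideal.pow_right_mono (J := J'.map (Ideal.Quotient.mk J)) (fun x hx => ?_) 2).trans ?_)
    · obtain ⟨x, rfl⟩ := Ideal.Quotient.mk_surjective x
      exact Ideal.mem_map_of_mem _ (Ideal.Quotient.eq_zero_iff_mem.1 hx)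
    · rw [← Ideal.map_pow, hJ', Ideal.map_bot]
  have hfo : IsFOThickMor (tMap sq.str (Ideal.Quotient.factorₐ sq.A hJ)) := isFOThickMor_yon _
    (UnivThick.isFirstOrderThickening_specMap _ (Ideal.Quotient.factor_surjective hJ) hJ2)
  obtain ⟨u, ⟨-, hu₂⟩, -⟩ := existsUnique_lift_of_formallyEtale ((formal_of_repWith a).2.1 ha)
    (IsAlgSpace.yon_obj _) hfo u₀ l₀ (hu₀.trans hres.symm)
  have hJJ : J ^ 2 = ⊥ := eq_bot_iff.2 ((Ideal.pow_right_mono hJ 2).trans hJ'.le)
  obtain ⟨L, hL₁, hL₂⟩ := exists_lift_tMap sq.str h J hJJ u (tBase sq.str D ≫ sq.bot)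
    (by rw [reassoc_of% hu₂, hl₀, ← Category.assoc, tMap_base])
  exact ⟨L ≫ a, by rw [reassoc_of% hL₁, hu₂], (Category.assoc _ _ _).trans hL₂⟩

theorem isFormallySmoothMor_yon_map {U V : Over S} {h : U ⟶ V} (hh : MoreMor.IsFormallySmoothHom h.left) :
    IsFormallySmoothMor ((yon S).map h) := by
  intro sq
  obtain ⟨t, ht⟩ := (yon S).map_surjective sq.top
  obtain ⟨β, hβ⟩ := (yon S).map_surjective sq.bot
  have hc : t ≫ h = sq.j ≫ β := (yon S).map_injective (by
    rw [Functor.map_comp, Functor.map_comp, ht, hβ]; exact sq.comm)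
  obtain ⟨l, hl₁, hl₂⟩ := hh sq.A sq.I sq.sq_zero t.left β.left (congrArg CommaMorphism.left hc).symm
  let m : sq.ptT' ⟶ U := Over.homMk l (by
    rw [← Over.w h, ← Category.assoc, hl₂]; exact Over.w β)
  refine ⟨(yon S).map m, ?_, ?_⟩
  · rw [← ht, ← Functor.map_comp]; exact congrArg _ (Over.OverMorphism.ext hl₁)
  · rw [← hβ, ← Functor.map_comp]; exact congrArg _ (Over.OverMorphism.ext hl₂)

theorem isFormallySmoothHom_of_isFormallySmoothMor {U V : Over S} {h : U ⟶ V}
    (hh : IsFormallySmoothMor ((yon S).map h)) : MoreMor.IsFormallySmoothHom h.left := by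
  intro A _ I hI a b w
  obtain ⟨t, β, ht, hβ, hw⟩ := exists_infSq_yon h I hI a b w
  let sq : InfSq ((yon S).map h) :=
    { A := A, I := I, sq_zero := hI, str := b ≫ V.hom, top := (yon S).map t, bot := (yon S).map β, comm := hw }
  obtain ⟨l, hl₁, hl₂⟩ := hh sq
  obtain ⟨m, rfl⟩ := (yon S).map_surjective l
  refine ⟨m.left, ?_, ?_⟩
  · rw [← ht]
    exact congrArg CommaMorphism.left ((yon S).map_injective (((yon S).map_comp _ _).trans hl₁))
  · rw [← hβ]
    exact congrArg CommaMorphism.left ((yon S).map_injective (((yon S).map_comp _ _).trans hl₂))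

/-- Formally smooth on one chart. -/
theorem isFormallySmoothMor_of_chart {X Y : Sp S} (hX : IsAlgSpace X) (hY : IsAlgSpace Y) {f : X ⟶ Y}
    {U V : Over S} {a : (yon S).obj U ⟶ X} {b : (yon S).obj V ⟶ Y} {h : U ⟶ V} (ha : RepWith @Etale a)
    (ha' : RepWith @Surjective a) (hb : RepWith @Etale b) (w : a ≫ f = (yon S).map h ≫ b)
    (hh : MoreMor.IsFormallySmoothHom h.left) : IsFormallySmoothMor f := by
  refine isFormallySmoothMor_of_etale_source hX hY ha ha' ?_
  rw [w]
  exact isFormallySmoothMor_comp (isFormallySmoothMor_yon_map hh)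
    ((isFormallyEtaleMor_iff b).1 ((formal_of_repWith b).2.1 hb)).1

theorem isFormallySmoothMor_iff_locP {X Y : Sp S} (hX : IsAlgSpace X) (hY : IsAlgSpace Y) (f : X ⟶ Y) :
    IsFormallySmoothMor f ↔ LocP @MoreMor.IsFormallySmoothHom f := by
  refine ⟨fun hf U V a b h ha hb w => ?_, fun hf => ?_⟩
  · exact isFormallySmoothHom_of_isFormallySmoothMor (isFormallySmoothMor_of_etale_square (IsAlgSpace.yon_obj U)
      (IsAlgSpace.yon_obj V) f hf a b (isEtaleMor_of_repWith ha) (isEtaleMor_of_repWith hb) _ w.symm)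
  · obtain ⟨U, V, a, b, h, ha, ha', hb, -, w⟩ := exists_chart hX hY f
    exact isFormallySmoothMor_of_chart hX hY ha ha' hb w (hf a b h ha hb w)

end Groth.Agent.UFO
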