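import Groth.Agent.AlgSpLib.InfBC
import Groth.Agent.AlgSpLib.EtLift
import Groth.Agent.AlgSpLib.UHEssSurj
import Groth.Agent.AlgSpDec.LqfSplitZ
import Groth.Agent.UnivThick.BaseChange

/-!
# Universal first order thickenings of spaces: descent along etale covers, functoriality
-/

set_option autoImplicit false
set_option backward.isDefEq.respectTransparency false
set_option backward.isDefEq.respectTransparency.types false

universe u

open CategoryTheory CategoryTheory.Limits AlgebraicGeometry Opposite AlgSp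

namespace Groth.Agent.UFO

open Groth.Agent.AlgSpLib Groth.Agent.AlgSpDec

variable {S : Scheme.{u}}

/-- A first order thickening of schemes over `S` gives one of sheaves. -/
theorem isFOThickMor_yon {U V : Over S} (g : U ⟶ V) (h : MoreMor.IsFirstOrderThickening g.left) :
    IsFOThickMor ((yon S).map g) := by
  refine ⟨(isThickMor_yon_map_iff g).2 h.1, fun V' W b fst snd _ _ sq => ?_⟩
  obtain ⟨b', rfl⟩ := (yon S).map_surjective b
  obtain ⟨f', rfl⟩ := (yon S).map_surjective fst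
  have w : f' ≫ g = snd ≫ b' := (yon S).map_injective (by rw [Functor.map_comp, Functor.map_comp, sq.w])
  have hs : IsPullback f'.left snd.left g.left b'.left :=
    (IsPullback.of_map (yon S) w sq).map (Over.forget S)
  exact (UnivThick.isFirstOrderThickening_baseChange hs.flip h).2

/-- Along a thickening of schemes, a map to `Y` lifts to an etale cover `Z` on a cover of the thickening. -/
theorem exists_cover {Z Y : Sp S} (hZ : IsAlgSpace Z) {e : Z ⟶ Y} (he : IsEtaleMor e)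
    (hes : IsSurjectiveMor e) {T T' : Over S} {j : T ⟶ T'} (hj : IsThickMor ((yon S).map j))
    (a : (yon S).obj T ⟶ Y) :
    ∃ (U U' : Over S) (jU : U ⟶ U') (q₀ : U ⟶ T) (q : U' ⟶ T') (aZ : (yon S).obj U ⟶ Z),
      Etale q.left ∧ Surjective q.left ∧
        IsPullback ((yon S).map q₀) ((yon S).map jU) ((yon S).map j) ((yon S).map q) ∧
        aZ ≫ e = (yon S).map q₀ ≫ a := by
  obtain ⟨W, pz, hpz, hpzs⟩ := hZ.atlas
  have hr : RepWith @Etale (pz ≫ e) := he pz hpz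
  have hrs : RepWith @Surjective (pz ≫ e) := repWith_surjective_of_surjective hr.rep fun y => by
    obtain ⟨z, rfl⟩ := hes y
    obtain ⟨w, rfl⟩ := surjective_map_of_repWith hpzs z
    exact ⟨w, Points.map_comp _ _ _⟩
  let U := hr.rep.pullback a
  let c₀ : U ⟶ T := hr.rep.snd a
  have : Etale c₀.left := hr.property_snd a
  have hcs : Surjective c₀.left := hrs.property _ _ _ (hr.rep.isPullback a)
  obtain ⟨U', b, ε, hb, hε⟩ := EtLift.exists_lift (IsAlgSpace.yon_obj T) (IsAlgSpace.yon_obj T') hj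
    ((yon S).map c₀) ((repWith_yon_map_iff _ c₀).2 inferInstance)
  obtain ⟨q, rfl⟩ := (yon S).map_surjective b
  obtain ⟨jU, hjU⟩ := (yon S).map_surjective (ε.hom ≫ pullback.snd ((yon S).map j) ((yon S).map q))
  have sq : IsPullback ((yon S).map c₀) ((yon S).map jU) ((yon S).map j) ((yon S).map q) :=
    (IsPullback.of_hasPullback ((yon S).map j) ((yon S).map q)).of_iso ε.symm (Iso.refl _) (Iso.refl _)
      (Iso.refl _) (by simp [← hε]) (by simp [hjU]) (by simp) (by simp)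
  have w : c₀ ≫ j = jU ≫ q := (yon S).map_injective (by rw [Functor.map_comp, Functor.map_comp, sq.w])
  have hjs : Surjective j.left := ((isThickMor_yon_map_iff j).1 hj).2
  refine ⟨U, U', jU, c₀, q, hr.rep.fst a ≫ pz, (repWith_yon_map_iff _ q).1 hb, ⟨fun t' => ?_⟩, sq, ?_⟩
  · obtain ⟨t, rfl⟩ := j.left.surjective t'
    obtain ⟨x, rfl⟩ := c₀.left.surjective t
    refine ⟨jU.left x, ?_⟩
    rw [← Scheme.Hom.comp_apply, ← Scheme.Hom.comp_apply, ← Over.comp_left, ← Over.comp_left, w]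
  · rw [Category.assoc]
    exact hr.rep.w a

/-- Being a universal first order thickening descends along an etale cover. -/
theorem isUnivFOThick_of_etale_cover {Z Y Z' Y' X : Sp S} (hZ : IsAlgSpace Z) {e : Z ⟶ Y} (he : IsEtaleMor e)
    (hes : IsSurjectiveMor e) (hY : Y ⟶ X) {iZ : Z ⟶ Z'} {iY : Y ⟶ Y'} (hiY : IsFOThickMor iY) {f' : Z' ⟶ Y'}
    (hf' : IsFormallyEtaleMor f') (w : iZ ≫ f' = e ≫ iY) {hY' : Y' ⟶ X} (w' : iY ≫ hY' = hY)
    (HU : IsUnivFOThick (e ≫ hY) iZ (f' ≫ hY')) : IsUnivFOThick hY iY hY' := by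
  -- uniqueness when the small scheme lifts to `Z`
  have uniqZ : ∀ {T T' : Over S} (j : T ⟶ T'), IsFOThickMor ((yon S).map j) →
      ∀ (aZ : (yon S).obj T ⟶ Z) (l l' : (yon S).obj T' ⟶ Y'), (yon S).map j ≫ l = aZ ≫ e ≫ iY →
        (yon S).map j ≫ l' = aZ ≫ e ≫ iY → l ≫ hY' = l' ≫ hY' → l = l' := by
    intro T T' j hj aZ l l' h1 h2 h3
    obtain ⟨m, ⟨hm1, hm2⟩, -⟩ := existsUnique_lift_of_formallyEtale hf' (IsAlgSpace.yon_obj T') hj (aZ ≫ iZ) l
      (by rw [Category.assoc, w, h1])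
    obtain ⟨m', ⟨hm1', hm2'⟩, -⟩ := existsUnique_lift_of_formallyEtale hf' (IsAlgSpace.yon_obj T') hj (aZ ≫ iZ) l'
      (by rw [Category.assoc, w, h2])
    have := (HU.2.2 (IsAlgSpace.yon_obj T) (IsAlgSpace.yon_obj T') _ aZ (l ≫ hY') hj
      (by rw [reassoc_of% h1, w'])).unique ⟨hm1, by rw [← Category.assoc, hm2]⟩
      ⟨hm1', by rw [← Category.assoc, hm2', h3]⟩
    rw [← hm2, ← hm2', this]
  -- uniqueness
  have uniq : ∀ {T T' : Over S} (j : T ⟶ T'), IsFOThickMor ((yon S).map j) →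
      ∀ (a : (yon S).obj T ⟶ Y) (l l' : (yon S).obj T' ⟶ Y'), (yon S).map j ≫ l = a ≫ iY →
        (yon S).map j ≫ l' = a ≫ iY → l ≫ hY' = l' ≫ hY' → l = l' := by
    intro T T' j hj a l l' h1 h2 h3
    obtain ⟨U, U', jU, q₀, q, aZ, hqe, hqs, sq, haZ⟩ := exists_cover hZ he hes hj.1 a
    have hqe' : RepWith @Etale ((yon S).map q) := (repWith_yon_map_iff _ q).2 hqe
    have := epi_of_etale_surjective hqe' ((repWith_yon_map_iff _ q).2 hqs)
    rw [← cancel_epi ((yon S).map q)]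
    refine uniqZ jU (isFOThickMor_of_isPullback hj hqe' sq) aZ _ _ ?_ ?_ ?_
    · rw [← reassoc_of% sq.w, h1, reassoc_of% haZ]
    · rw [← reassoc_of% sq.w, h2, reassoc_of% haZ]
    · rw [Category.assoc, Category.assoc, h3]
  refine (isUnivFOThick_iff hY iY hY' hiY w').2 fun T T' j _ hj a b hw => ?_
  suffices h : ∃ g : (yon S).obj T' ⟶ Y', (yon S).map j ≫ g = a ≫ iY ∧ g ≫ hY' = b by
    obtain ⟨g, hg1, hg2⟩ := h
    exact ⟨g, ⟨hg1, hg2⟩, fun g' hg' => uniq j hj a g' g hg'.1 hg1 (hg'.2.trans hg2.symm)⟩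
  obtain ⟨U, U', jU, q₀, q, aZ, hqe, hqs, sq, haZ⟩ := exists_cover hZ he hes hj.1 a
  have hqe' : RepWith @Etale ((yon S).map q) := (repWith_yon_map_iff _ q).2 hqe
  have hqs' : RepWith @Surjective ((yon S).map q) := (repWith_yon_map_iff _ q).2 hqs
  have hjU := isFOThickMor_of_isPullback hj hqe' sq
  obtain ⟨m, ⟨hm1, hm2⟩, -⟩ := HU.2.2 (IsAlgSpace.yon_obj U) (IsAlgSpace.yon_obj U') _ aZ
    ((yon S).map q ≫ b) hjU (by rw [← reassoc_of% sq.w, hw, reassoc_of% haZ])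
  have hl : (yon S).map jU ≫ m ≫ f' = (yon S).map q₀ ≫ a ≫ iY := by
    rw [reassoc_of% hm1, w, reassoc_of% haZ]
  have := isLocallySurjective_of_etale_surjective hqe' hqs'
  -- the kernel pair
  let p₁ : pullback q q ⟶ U' := pullback.fst q q
  let p₂ : pullback q q ⟶ U' := pullback.snd q q
  have sqp : IsPullback ((yon S).map p₁) ((yon S).map p₂) ((yon S).map q) ((yon S).map q) :=
    (IsPullback.of_hasPullback q q).map (yon S)
  have hp₁ : RepWith @Etale ((yon S).map p₁) := repWith_of_isPullback sqp.flip hqe'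
  obtain ⟨g, hg⟩ := exists_desc_of_kernelPair sqp (m ≫ f') (by
    have sqR := hjU.1.rep.isPullback ((yon S).map p₁)
    obtain ⟨r₂, hr₂a, hr₂b⟩ := sq.exists_lift (hjU.1.rep.fst ((yon S).map p₁) ≫ (yon S).map q₀)
      ((yon S).map (hjU.1.rep.snd ((yon S).map p₁)) ≫ (yon S).map p₂)
      (by rw [Category.assoc, sq.w, Category.assoc, ← sqp.w, reassoc_of% sqR.w])
    refine uniq _ (isFOThickMor_of_isPullback hjU hp₁ sqR)
      (hjU.1.rep.fst ((yon S).map p₁) ≫ (yon S).map q₀ ≫ a) _ _ ?_ ?_ ?_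
    · rw [← reassoc_of% sqR.w, hl]
      simp only [Category.assoc]
    · rw [← reassoc_of% hr₂b, hl, reassoc_of% hr₂a]
      simp only [Category.assoc]
    · rw [Category.assoc, Category.assoc, Category.assoc, Category.assoc, hm2, reassoc_of% sqp.w])
  refine ⟨g, ?_, ?_⟩
  · have := epi_of_etale_surjective (repWith_of_isPullback sq.flip hqe')
      (repWith_of_isPullback sq.flip hqs')
    rw [← cancel_epi ((yon S).map q₀), reassoc_of% sq.w, hg, hl]
  · have := epi_of_etale_surjective hqe' hqs'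
    rw [← cancel_epi ((yon S).map q), reassoc_of% hg, hm2]

/-- Composition with a formally etale morphism of the base. -/
theorem isUnivFOThick_comp_formallyEtale {Z Z' Y X : Sp S} {hZ : Z ⟶ Y} {g : Y ⟶ X} {i : Z ⟶ Z'}
    {h' : Z' ⟶ Y} (HU : IsUnivFOThick hZ i h') (hg : IsFormallyEtaleMor g) :
    IsUnivFOThick (hZ ≫ g) i (h' ≫ g) := by
  refine ⟨HU.1, by rw [← Category.assoc, HU.2.1], fun T T' hT hT' j a b hj hw => ?_⟩
  obtain ⟨c, ⟨hc₁, hc₂⟩, hc⟩ := existsUnique_lift_of_formallyEtale hg hT' hj (a ≫ hZ) b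
    ((Category.assoc _ _ _).trans hw.symm)
  obtain ⟨a', ⟨h₁, h₂⟩, ha'⟩ := HU.2.2 hT hT' j a c hj hc₁
  refine ⟨a', ⟨h₁, by rw [← Category.assoc, h₂, hc₂]⟩,
    fun y hy => ha' y ⟨hy.1, hc (y ≫ h') ⟨?_, (Category.assoc _ _ _).trans hy.2⟩⟩⟩
  rw [← Category.assoc, hy.1, Category.assoc, HU.2.1]

/-- Universal first order thickenings of the same morphism are uniquely isomorphic. -/
theorem exists_iso_of_univ {Z Z₁ Z₂ X : Sp S} (hZ : IsAlgSpace Z) (hZ₁ : IsAlgSpace Z₁) (hZ₂ : IsAlgSpace Z₂)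
    {h : Z ⟶ X} {i₁ : Z ⟶ Z₁} {h₁ : Z₁ ⟶ X} (H₁ : IsUnivFOThick h i₁ h₁) {i₂ : Z ⟶ Z₂} {h₂ : Z₂ ⟶ X}
    (H₂ : IsUnivFOThick h i₂ h₂) : ∃ φ : Z₁ ≅ Z₂, i₁ ≫ φ.hom = i₂ ∧ φ.hom ≫ h₂ = h₁ := by
  obtain ⟨f, ⟨hf₁, hf₂⟩, -⟩ := H₂.2.2 hZ hZ₁ i₁ (𝟙 Z) h₁ H₁.1 (by rw [Category.id_comp, H₁.2.1])
  obtain ⟨g, ⟨hg₁, hg₂⟩, -⟩ := H₁.2.2 hZ hZ₂ i₂ (𝟙 Z) h₂ H₂.1 (by rw [Category.id_comp, H₂.2.1])
  rw [Category.id_comp] at hf₁ hg₁
  refine ⟨⟨f, g, ?_, ?_⟩, hf₁, hf₂⟩
  · exact (H₁.2.2 hZ hZ₁ i₁ (𝟙 Z) h₁ H₁.1 (by rw [Category.id_comp, H₁.2.1])).unique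
      ⟨by rw [reassoc_of% hf₁, hg₁, Category.id_comp], by rw [Category.assoc, hg₂, hf₂]⟩ ⟨by simp, by simp⟩
  · exact (H₂.2.2 hZ hZ₂ i₂ (𝟙 Z) h₂ H₂.1 (by rw [Category.id_comp, H₂.2.1])).unique
      ⟨by rw [reassoc_of% hg₁, hf₁, Category.id_comp], by rw [Category.assoc, hf₂, hg₂]⟩ ⟨by simp, by simp⟩

/-- A thickening is a universal homeomorphism. -/
theorem isUH_of_thick {X Y : Sp S} {i : X ⟶ Y} (hi : IsThickMor i) : UHDesc.IsUH i where
  integral := repWith_mono (P := thick) (fun _ _ f hf => by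
    have : IsClosedImmersion f := hf.1
    exact inferInstanceAs (IsIntegralHom f)) _ hi
  inj := repWith_mono (P := thick) (fun _ _ f hf => by
    have : IsClosedImmersion f := hf.1
    exact inferInstanceAs (UniversallyInjective f)) _ hi
  surj := repWith_mono (P := thick) (fun _ _ _ hf => hf.2) _ hi

/-- The map of universal thickenings over an etale map is etale. -/
theorem isEtaleMor_univ_map {Z X Z' V U V' : Sp S} (hZ : IsAlgSpace Z) (hZ' : IsAlgSpace Z') (hV : IsAlgSpace V)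
    (hV' : IsAlgSpace V') (hU : IsAlgSpace U) {h : Z ⟶ X} {iZ : Z ⟶ Z'} {hZ'X : Z' ⟶ X}
    (HZ : IsUnivFOThick h iZ hZ'X) {v : V ⟶ Z} {w : U ⟶ X} (hv : IsEtaleMor v) (hw : IsEtaleMor w)
    {ψ : V ⟶ U} (c : ψ ≫ w = v ≫ h) {iV : V ⟶ V'} {hV'U : V' ⟶ U} (HV : IsUnivFOThick ψ iV hV'U)
    {e' : V' ⟶ Z'} (he₁ : iV ≫ e' = v ≫ iZ) (he₂ : e' ≫ hZ'X = hV'U ≫ w) : IsEtaleMor e' := by
  obtain ⟨V'', hV'', a, c₀, ha, sq⟩ := UHDesc.exists_descent hZ hZ' hV (isUH_of_thick HZ.1.1) hv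
  have H'' := isUnivFOThick_etale hZ' hV'' v h iZ hZ'X HZ c₀ a ha sq
  have H' := isUnivFOThick_comp_formallyEtale HV (isFormallyEtaleMor_of_isEtaleMor hU hw)
  rw [c] at H'
  obtain ⟨φ, hφ₁, hφ₂⟩ := exists_iso_of_univ hV hV' hV'' H' H''
  have : e' = φ.hom ≫ a := (HZ.2.2 hV hV' iV v (hV'U ≫ w) HV.1 (by rw [← Category.assoc, HV.2.1, c])).unique
    ⟨he₁, he₂⟩ ⟨by rw [reassoc_of% hφ₁, sq.w], by rw [Category.assoc, hφ₂]⟩
  rw [this]
  exact isEtaleMor_comp hV' hV'' hZ' (isEtaleMor_of_repWith (repWith_of_isIso _ _)) ha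

end Groth.Agent.UFO
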