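import Groth.Agent.UFO.Rel
import Groth.Agent.UnivThick.Exists
import Groth.Agent.AlgSpWA.ThickPOSpace

/-!
# Existence of universal first order thickenings of spaces
-/

set_option autoImplicit false
set_option backward.isDefEq.respectTransparency false
set_option backward.isDefEq.respectTransparency.types false

universe u

open CategoryTheory CategoryTheory.Limits AlgebraicGeometry Opposite AlgSp

namespace Groth.Agent.UFO

open Groth.Agent.AlgSpLib Groth.Agent.AlgSpDec Groth.Agent.AlgSpPts

variable {S : Scheme.{u}}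

/-- A thickening is of first order if it is so on an etale cover of the target. -/
theorem sqZero_of_etale_cover {Z Q : Sp S} {i : Z ⟶ Q} (hi : IsThickMor i) {U U' : Over S}
    {π : (yon S).obj U' ⟶ Q} (hπe : RepWith @Etale π) (hπs : RepWith @Surjective π) {iU : U ⟶ U'}
    {a : (yon S).obj U ⟶ Z} (sq : IsPullback a ((yon S).map iU) i π)
    (hiU : MoreMor.IsFirstOrderThickening iU.left) : AffLocT sqZero i := by
  intro V W b fst snd hV _ sqW
  have hth : thick snd.left := hi.2 b fst snd sqW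
  have : IsClosedImmersion snd.left := hth.1
  refine Groth.Agent.MorLib.ker_mul_ker_eq_bot_of_isAffine _ ?_
  rw [pow_two, eq_bot_iff, Ideal.mul_le]
  intro x hx y hy
  rw [Ideal.mem_bot]
  refine eq_zero_of_flat_cover (x * y) fun v => ?_
  let P := hπe.rep.pullback b
  let k : P ⟶ V := hπe.rep.snd b
  let k' : P ⟶ U' := hπe.rep.fst' b
  have sqP : IsPullback ((yon S).map k') ((yon S).map k) π b := hπe.rep.isPullback' b
  have : Etale k.left := hπe.property_snd b
  have hks : Surjective k.left := hπs.property _ _ _ sqP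
  obtain ⟨u, rfl⟩ := k.left.surjective v
  obtain ⟨Bop, hBop, huB, -⟩ := exists_isAffineOpen_mem_and_subset (U := (⊤ : P.left.Opens)) (x := u) trivial
  let B : Over S := Over.mk (Bop.ι ≫ P.hom)
  let o : B ⟶ P := Over.homMk Bop.ι rfl
  let kB : B ⟶ V := o ≫ k
  have : IsAffine B.left := hBop
  let qB : pullback snd kB ⟶ B := pullback.snd snd kB
  let pr : pullback snd kB ⟶ W := pullback.fst snd kB
  have hB : IsPullback ((yon S).map pr ≫ fst) ((yon S).map qB) i ((yon S).map (o ≫ k') ≫ π) := by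
    rw [Functor.map_comp_assoc, sqP.w, ← Functor.map_comp_assoc]
    exact ((IsPullback.of_hasPullback snd kB).map (yon S)).paste_horiz sqW
  obtain ⟨m, hm₁, hm₂⟩ := sq.exists_lift ((yon S).map pr ≫ fst) ((yon S).map qB ≫ (yon S).map (o ≫ k'))
    (hB.w.trans (Category.assoc _ _ _).symm)
  obtain ⟨m, rfl⟩ := (yon S).map_surjective m
  rw [← hm₁] at hB
  have hw : m ≫ iU = qB ≫ o ≫ k' := (yon S).map_injective (by rw [Functor.map_comp, hm₂, ← Functor.map_comp])
  have hsq : IsPullback m.left qB.left iU.left (o ≫ k').left :=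
    (IsPullback.of_map (yon S) hw (IsPullback.of_right hB hm₂ sq)).map (Over.forget S)
  have hq := UnivThick.isFirstOrderThickening_baseChange hsq.flip hiU
  have : IsClosedImmersion qB.left := hq.1.1
  have hJ := Groth.Agent.MorLib.ker_appTop_sq_eq_bot qB.left hq.2
  have key : ∀ z ∈ RingHom.ker snd.left.appTop.hom, kB.left.appTop z ∈ RingHom.ker qB.left.appTop.hom := by
    intro z hz
    have e := congrArg (fun f : pullback snd kB ⟶ V => f.left.appTop z) (pullback.condition (f := snd) (g := kB))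
    simp only [Over.comp_left, Scheme.Hom.comp_appTop, CommRingCat.comp_apply] at e
    rw [RingHom.mem_ker.1 hz, map_zero] at e
    exact RingHom.mem_ker.2 e.symm
  refine ⟨B.left, kB.left, ⟨u, huB⟩, ?_, rfl, ?_⟩
  · change Flat (Bop.ι ≫ k.left)
    infer_instance
  · rw [map_mul]
    have : _ ∈ RingHom.ker qB.left.appTop.hom ^ 2 := pow_two (RingHom.ker qB.left.appTop.hom) ▸
      Ideal.mul_mem_mul (key x hx) (key y hy)
    rwa [hJ, Ideal.mem_bot] at this

/-- A universal thickening of schemes gives one of sheaves. -/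
theorem isUnivFOThick_yon {U U' V : Over S} (h : U ⟶ V) (i : U ⟶ U') (h' : U' ⟶ V)
    (H : OmegaSh.IsUnivThickening h.left i.left h'.left) :
    IsUnivFOThick ((yon S).map h) ((yon S).map i) ((yon S).map h') := by
  have w : i ≫ h' = h := Over.OverMorphism.ext H.2.1
  refine (isUnivFOThick_iff _ _ _ (isFOThickMor_yon i H.1) (by rw [← Functor.map_comp, w])).2
    fun T T' j hT' hj a b hw => ?_
  obtain ⟨a, rfl⟩ := (yon S).map_surjective a
  obtain ⟨b, rfl⟩ := (yon S).map_surjective b
  rw [← Functor.map_comp, ← Functor.map_comp] at hw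
  have hw' : j.left ≫ b.left = a.left ≫ h.left :=
    congrArg CommaMorphism.left ((yon S).map_injective hw)
  obtain ⟨m, ⟨hm₁, hm₂⟩, hm⟩ := H.2.2 T.left T'.left j.left b.left a.left
    (isFirstOrderThickening_of_isFOThickMor_yon_map hT' hj) hw'
  let mo : T' ⟶ U' := Over.homMk m (by rw [← Over.w h', ← Category.assoc, hm₂]; exact Over.w b)
  refine ⟨(yon S).map mo, ⟨?_, ?_⟩, fun l hl => ?_⟩
  · rw [← Functor.map_comp, ← Functor.map_comp]
    exact congrArg (fun q => (yon S).map q) (Over.OverMorphism.ext hm₁)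
  · rw [← Functor.map_comp]
    exact congrArg (fun q => (yon S).map q) (Over.OverMorphism.ext hm₂)
  · obtain ⟨l, rfl⟩ := (yon S).map_surjective l
    simp only [← Functor.map_comp] at hl
    exact congrArg (fun q => (yon S).map q) (Over.OverMorphism.ext (hm l.left
      ⟨congrArg CommaMorphism.left ((yon S).map_injective hl.1),
        congrArg CommaMorphism.left ((yon S).map_injective hl.2)⟩))

/-- A formally unramified morphism of spaces has a universal first order thickening. -/
theorem exists_univFOThick {Z X : Sp S} (hZ : IsAlgSpace Z) (hX : IsAlgSpace X) {h : Z ⟶ X}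
    (hh : IsFormallyUnramifiedMor h) :
    ∃ (Z' : Sp S) (_ : IsAlgSpace Z') (i : Z ⟶ Z') (h' : Z' ⟶ X), IsUnivFOThick h i h' := by
  -- a chart
  obtain ⟨U, V, a, b, hUV, ha, has, hb, -, w⟩ := exists_chart hZ hX h
  have : FormallyUnramified hUV.left := (isFormallyUnramifiedMor_iff_locP hZ hX h).1 hh a b hUV ha hb w
  obtain ⟨Us, i₀, h₀', H₀⟩ := UnivThick.exists_univThickening hUV.left
  let U' : Over S := Over.mk (h₀' ≫ V.hom)
  let iU : U ⟶ U' := Over.homMk i₀ (by
    change i₀ ≫ h₀' ≫ V.hom = U.hom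
    rw [← Category.assoc, H₀.2.1, Over.w hUV])
  let hU' : U' ⟶ V := Over.homMk h₀' rfl
  let hU'X : (yon S).obj U' ⟶ X := (yon S).map hU' ≫ b
  have HU : IsUnivFOThick (a ≫ h) ((yon S).map iU) hU'X := by
    rw [w]
    exact isUnivFOThick_comp_formallyEtale (isUnivFOThick_yon hUV iU hU' H₀) ((formal_of_repWith b).2.1 hb)
  -- the kernel pair lifted to the thickening
  let R := ha.rep.pullback a
  let t : R ⟶ U := ha.rep.fst' a
  let s : R ⟶ U := ha.rep.snd a
  have kp : IsPullback ((yon S).map t) ((yon S).map s) a a := ha.rep.isPullback' a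
  have lift_exists : ∀ (r : R ⟶ U), RepWith @Etale ((yon S).map r) → ∃ (R' : Over S) (iR : R ⟶ R') (r' : R' ⟶ U'),
      Etale r'.left ∧ IsPullback ((yon S).map r) ((yon S).map iR) ((yon S).map iU) ((yon S).map r') := by
    intro r hr
    obtain ⟨R', br, ε, hbr, hε⟩ := EtLift.exists_lift (IsAlgSpace.yon_obj U) (IsAlgSpace.yon_obj U') HU.1.1
      ((yon S).map r) hr
    obtain ⟨r', rfl⟩ := (yon S).map_surjective br
    obtain ⟨iR, hiR⟩ := (yon S).map_surjective (ε.hom ≫ pullback.snd ((yon S).map iU) ((yon S).map r'))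
    exact ⟨R', iR, r', (repWith_yon_map_iff _ r').1 hbr,
      (IsPullback.of_hasPullback ((yon S).map iU) ((yon S).map r')).of_iso ε.symm (Iso.refl _) (Iso.refl _)
      (Iso.refl _) (by simp [← hε]) (by simp [hiR]) (by simp) (by simp)⟩
  obtain ⟨R', iR, t', ht', sqt⟩ := lift_exists t (repWith_of_isPullback kp.flip ha)
  obtain ⟨R₂, iR₂, s₂, hs₂, sqs₂⟩ := lift_exists s (repWith_of_isPullback kp ha)
  have ht'e : RepWith @Etale ((yon S).map t') := (repWith_yon_map_iff _ _).2 ht'
  have hs₂e : RepWith @Etale ((yon S).map s₂) := (repWith_yon_map_iff _ _).2 hs₂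
  have Ht := isUnivFOThick_etale (IsAlgSpace.yon_obj U') (IsAlgSpace.yon_obj R') ((yon S).map t) (a ≫ h)
    ((yon S).map iU) hU'X HU ((yon S).map iR) _ (isEtaleMor_of_repWith ht'e) sqt
  have Hs := isUnivFOThick_etale (IsAlgSpace.yon_obj U') (IsAlgSpace.yon_obj R₂) ((yon S).map s) (a ≫ h)
    ((yon S).map iU) hU'X HU ((yon S).map iR₂) _ (isEtaleMor_of_repWith hs₂e) sqs₂
  rw [← reassoc_of% kp.w] at Hs
  obtain ⟨φ, hφ₁, hφ₂⟩ := exists_iso_of_univ (IsAlgSpace.yon_obj R) (IsAlgSpace.yon_obj R') (IsAlgSpace.yon_obj R₂)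
    Ht Hs
  let s' : R' ⟶ U' := (yon S).preimage φ.hom ≫ s₂
  have hs' : (yon S).map s' = φ.hom ≫ (yon S).map s₂ := by rw [Functor.map_comp, Functor.map_preimage]
  have hs'e : RepWith @Etale ((yon S).map s') := hs' ▸ repWith_comp (repWith_of_isIso _ _) hs₂e
  have : Etale s'.left := (repWith_yon_map_iff _ s').1 hs'e
  have sqs : IsPullback ((yon S).map s) ((yon S).map iR) ((yon S).map iU) ((yon S).map s') :=
    sqs₂.of_iso (Iso.refl _) (Iso.refl _) φ.symm (Iso.refl _) (by simp)
      (by simp [← hφ₁]) (by simp) (by simp [hs'])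
  have he : (yon S).map t' ≫ hU'X = (yon S).map s' ≫ hU'X := by rw [hs', Category.assoc, hφ₂]
  have hE := isEqvRelSp_lift (IsAlgSpace.yon_obj U) (IsAlgSpace.yon_obj R) (IsAlgSpace.yon_obj U')
    (IsAlgSpace.yon_obj R') kp HU sqt sqs (isEtaleMor_of_repWith ht'e) he
  -- the quotient
  have hF : ∀ (r : R' ⟶ U'), Etale r.left →
      LocP @Flat ((yon S).map r) ∧ LocP @LocallyOfFinitePresentation ((yon S).map r) := fun r _ =>
    ⟨locP_of_repWith ((repWith_yon_map_iff _ _).2 (inferInstanceAs (Flat r.left))),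
      locP_of_repWith ((repWith_yon_map_iff _ _).2 (inferInstanceAs (LocallyOfFinitePresentation r.left)))⟩
  have hQ := isAlgSpace_quotSp (IsAlgSpace.yon_obj _) (IsAlgSpace.yon_obj _) hE (hF s' ‹_›) (hF t' ht')
  have hker := isPullback_quotSpπ (IsAlgSpace.yon_obj _) (IsAlgSpace.yon_obj _) hE (hF s' ‹_›) (hF t' ht')
  let π : (yon S).obj U' ⟶ quotSp ((yon S).map s') ((yon S).map t') := quotSpπ _ _
  have : Sheaf.IsLocallySurjective π :=
    (Sheaf.isLocallySurjective_iff_epi π).2 (inferInstanceAs (Epi (coequalizer.π _ _)))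
  have hπr : Representable π := hQ.representable_from_yon π
  have hss : Surjective s'.left := ⟨fun x => by
    obtain ⟨r, -, hr⟩ := (hE.equivalence U').refl (𝟙 _)
    obtain ⟨r, rfl⟩ := (yon S).map_surjective r
    have hr' : r ≫ s' = 𝟙 U' := (yon S).map_injective (by rw [Functor.map_comp, hr, CategoryTheory.Functor.map_id])
    exact ⟨r.left x, congrArg (fun m : U' ⟶ U' => m.left x) hr'⟩⟩
  have := Groth.Agent.AlgSpPts.isLocalAtTarget_fppf (@Etale : MorphismProperty Scheme.{u})
  have := Groth.Agent.AlgSpPts.isLocalAtTarget_fppf (@Surjective : MorphismProperty Scheme.{u})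
  have hπe : RepWith @Etale π := repWith_of_locallySurjective hπr _ hker @Etale hs'e
  have hπs : RepWith @Surjective π :=
    repWith_of_locallySurjective hπr _ hker @Surjective ((repWith_yon_map_iff _ _).2 hss)
  have hiπ : (yon S).map t ≫ (yon S).map iU ≫ π = (yon S).map s ≫ (yon S).map iU ≫ π := by
    rw [reassoc_of% sqt.w, reassoc_of% sqs.w, hker.w]
  have := isLocallySurjective_of_etale_surjective ha has
  obtain ⟨i, hi⟩ := exists_desc_of_kernelPair kp ((yon S).map iU ≫ π) hiπ
  obtain ⟨h', hh'⟩ := exists_desc_of_kernelPair hker hU'X he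
  have hih : i ≫ h' = h := by
    have := epi_of_etale_surjective ha has
    rw [← cancel_epi a, reassoc_of% hi, hh', HU.2.1]
  have hiRt : iR ≫ t' = t ≫ iU := (yon S).map_injective (by rw [Functor.map_comp, Functor.map_comp, sqt.w])
  have hiRs : iR ≫ s' = s ≫ iU := (yon S).map_injective
    (((yon S).map_comp _ _).trans (sqs.w.symm.trans ((yon S).map_comp _ _).symm))
  have sqQ : IsPullback ((yon S).map iU) a π i :=
    AlgSpWA.ThickPO.isPullback_quot_chart ha has hE hker kp.flip
      (IsPullback.of_map (yon S) hiRs sqs.flip) hiRt hi.symm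
  have hiU : MoreMor.IsFirstOrderThickening iU.left := H₀.1
  have hcl : RepWith @IsClosedImmersion i :=
    repWith_isClosedImmersion_of_etale_cover hπe hπs sqQ.flip ((repWith_yon_map_iff _ iU).2 hiU.1.1)
  have hsurj : RepWith @Surjective i := repWith_surjective_of_surjective hcl.rep fun y => by
    obtain ⟨v, rfl⟩ := surjective_map_of_repWith hπs y
    obtain ⟨v₀, rfl⟩ := surjective_map_of_repWith ((repWith_yon_map_iff _ iU).2 hiU.1.2) v
    exact ⟨Points.map a v₀, by rw [← Points.map_comp, ← sqQ.w, Points.map_comp]⟩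
  have hth : IsThickMor i :=
    ⟨hcl.rep, fun _ _ g fst snd sq => ⟨hcl.property g fst snd sq, hsurj.property g fst snd sq⟩⟩
  have hfo : IsFOThickMor i := ⟨hth, sqZero_of_etale_cover hth hπe hπs sqQ.flip hiU⟩
  refine ⟨_, hQ, i, h', isUnivFOThick_of_etale_cover (IsAlgSpace.yon_obj U) (isEtaleMor_of_repWith ha)
    (surjective_map_of_repWith has) h hfo ((formal_of_repWith π).2.1 hπe) hi.symm hih ?_⟩
  rwa [hh']

end Groth.Agent.UFO
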