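import Groth.Agent.UFO.Basic
import Groth.Agent.AlgSpDec.SpQuot
import Groth.Agent.AlgSpLib.ThickTop

/-!
# The relation on a universal thickening of a chart
-/

set_option autoImplicit false
set_option backward.isDefEq.respectTransparency false
set_option backward.isDefEq.respectTransparency.types false

universe u

open CategoryTheory CategoryTheory.Limits AlgebraicGeometry Opposite AlgSp

namespace Groth.Agent.UFO

open Groth.Agent.AlgSpLib Groth.Agent.AlgSpDec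

variable {S : Scheme.{u}}

/-- Lifting a kernel pair to universal thickenings gives an equivalence relation. -/
theorem isEqvRelSp_lift {Z X U U' R R' : Sp S} (hU : IsAlgSpace U) (hR : IsAlgSpace R) (hU' : IsAlgSpace U')
    (hR' : IsAlgSpace R') {a : U ⟶ Z} {g : Z ⟶ X} {t s : R ⟶ U} (kp : IsPullback t s a a) {iU : U ⟶ U'}
    {hU'X : U' ⟶ X} (HU : IsUnivFOThick (a ≫ g) iU hU'X) {iR : R ⟶ R'} {t' s' : R' ⟶ U'}
    (sqt : IsPullback t iR iU t') (sqs : IsPullback s iR iU s') (ht : IsEtaleMor t')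
    (e : t' ≫ hU'X = s' ≫ hU'X) : IsEqvRelSp s' t' := by
  have hmono : Mono iU := mono_of_thick HU.1.1
  have HR := isUnivFOThick_etale hU' hR' t (a ≫ g) iU hU'X HU iR t' ht sqt
  refine ⟨fun T r r' h₁ h₂ => ?_, fun T => ?_⟩
  · have hi := HU.1.1
    have sqT := hi.rep.isPullback (r ≫ t')
    let j₀ := hi.rep.snd (r ≫ t')
    let u₀ := hi.rep.fst (r ≫ t')
    have hw : u₀ ≫ iU = (yon S).map j₀ ≫ r ≫ t' := sqT.w
    obtain ⟨ρ, hρ₁, hρ₂⟩ := sqt.exists_lift u₀ ((yon S).map j₀ ≫ r) (hw.trans (Category.assoc _ _ _).symm)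
    obtain ⟨ρ', hρ₁', hρ₂'⟩ := sqt.exists_lift u₀ ((yon S).map j₀ ≫ r') (hw.trans ((congrArg ((yon S).map j₀ ≫ ·) h₁).trans (Category.assoc _ _ _).symm))
    have hρs : ρ ≫ s = ρ' ≫ s := by
      rw [← cancel_mono iU, Category.assoc, Category.assoc, sqs.w, reassoc_of% hρ₂, reassoc_of% hρ₂', h₂]
    have hρ : ρ = ρ' := kp.hom_ext (hρ₁.trans hρ₁'.symm) hρs
    have hj₀ : IsFOThickMor ((yon S).map j₀) := isFOThickMor_baseChange hU' HU.1 sqT
    exact (existsUnique_lift_of_formallyEtale (isFormallyEtaleMor_of_isEtaleMor hR' ht) (IsAlgSpace.yon_obj T)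
      hj₀ ((yon S).map j₀ ≫ r) (r ≫ t') (Category.assoc _ _ _)).unique ⟨rfl, rfl⟩
      ⟨by rw [← hρ₂', ← hρ, hρ₂], h₁.symm⟩
  · have uniqU : ∀ {P P' : Sp S}, IsAlgSpace P → IsAlgSpace P' → ∀ {j : P ⟶ P'}, IsFOThickMor j →
        ∀ (α : P ⟶ U) (l l' : P' ⟶ U'), j ≫ l = α ≫ iU → j ≫ l' = α ≫ iU → l ≫ hU'X = l' ≫ hU'X → l = l' := by
      intro P P' hP hP' j hj α l l' h1 h2 h3
      exact (HU.2.2 hP hP' j α (l ≫ hU'X) hj (by rw [reassoc_of% h1, HU.2.1])).unique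
        ⟨h1, rfl⟩ ⟨h2, h3.symm⟩
    -- the identity
    obtain ⟨δ, hδt, hδs⟩ := kp.exists_lift (𝟙 U) (𝟙 U) rfl
    obtain ⟨eu, ⟨he₁, he₂⟩, -⟩ := HR.2.2 hU hU' iU δ hU'X HU.1
      (by rw [reassoc_of% hδt, HU.2.1])
    have het : eu ≫ t' = 𝟙 U' := uniqU hU hU' HU.1 (𝟙 U) _ _
      (by rw [reassoc_of% he₁, ← sqt.w, reassoc_of% hδt, Category.id_comp]) (by simp)
      (by rw [Category.assoc, he₂, Category.id_comp])
    have hes : eu ≫ s' = 𝟙 U' := uniqU hU hU' HU.1 (𝟙 U) _ _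
      (by rw [reassoc_of% he₁, ← sqs.w, reassoc_of% hδs, Category.id_comp]) (by simp)
      (by rw [Category.assoc, ← e, he₂, Category.id_comp])
    -- the inverse
    obtain ⟨σ, hσt, hσs⟩ := kp.exists_lift s t kp.w.symm
    have hiRt : iR ≫ t' ≫ hU'X = t ≫ a ≫ g := by rw [← reassoc_of% sqt.w, HU.2.1]
    obtain ⟨iv, ⟨hv₁, hv₂⟩, -⟩ := HR.2.2 hR hR' iR σ (t' ≫ hU'X) HR.1
      (by rw [hiRt, reassoc_of% hσt, reassoc_of% kp.w])
    have hvt : iv ≫ t' = s' := uniqU hR hR' HR.1 s _ _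
      (by rw [reassoc_of% hv₁, ← sqt.w, reassoc_of% hσt]) sqs.w.symm
      (by rw [Category.assoc, hv₂, e])
    have hvs : iv ≫ s' = t' := uniqU hR hR' HR.1 t _ _
      (by rw [reassoc_of% hv₁, ← sqs.w, reassoc_of% hσs]) sqt.w.symm
      (by rw [Category.assoc, ← e, hv₂])
    -- composition
    have hP' : IsAlgSpace (pullback s' t') := isAlgSpace_pullback hR' hR' hU' s' t'
    let p₁ : pullback s' t' ⟶ R' := pullback.fst s' t'
    let p₂ : pullback s' t' ⟶ R' := pullback.snd s' t'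
    have sqP : IsPullback (pullback.fst iR p₁) (pullback.snd iR p₁) iR p₁ := IsPullback.of_hasPullback _ _
    let q₁ : pullback iR p₁ ⟶ R := pullback.fst iR p₁
    let jP : pullback iR p₁ ⟶ pullback s' t' := pullback.snd iR p₁
    have hjP : IsFOThickMor jP := isFOThickMor_baseChange hR' HR.1 sqP
    have hP : IsAlgSpace (pullback iR p₁) := isAlgSpace_pullback hR hP' hR' iR p₁
    obtain ⟨q₂, hq₂t, hq₂i⟩ := sqt.exists_lift (q₁ ≫ s) (jP ≫ p₂) (by
      rw [Category.assoc, sqs.w, reassoc_of% sqP.w, Category.assoc, pullback.condition])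
    obtain ⟨γ, hγt, hγs⟩ := kp.exists_lift (q₁ ≫ t) (q₂ ≫ s) (by
      rw [Category.assoc, Category.assoc, ← kp.w, reassoc_of% hq₂t, kp.w])
    obtain ⟨cm, ⟨hc₁, hc₂⟩, -⟩ := HR.2.2 hP hP' jP γ (p₁ ≫ t' ≫ hU'X) hjP (by
      rw [← reassoc_of% sqP.w, hiRt, reassoc_of% hγt])
    have hct : cm ≫ t' = p₁ ≫ t' := uniqU hP hP' hjP (q₁ ≫ t) _ _
      (by rw [reassoc_of% hc₁, ← sqt.w, reassoc_of% hγt, Category.assoc])
      (by rw [← reassoc_of% sqP.w, ← sqt.w, Category.assoc])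
      (by rw [Category.assoc, hc₂, Category.assoc])
    have hcs : cm ≫ s' = p₂ ≫ s' := uniqU hP hP' hjP (q₂ ≫ s) _ _
      (by rw [reassoc_of% hc₁, ← sqs.w, reassoc_of% hγs, Category.assoc])
      (by rw [← reassoc_of% hq₂i, ← sqs.w, Category.assoc])
      (by rw [Category.assoc, ← e, hc₂, Category.assoc]
          exact (congrArg (p₁ ≫ ·) e).trans ((pullback.condition_assoc hU'X).trans (congrArg (p₂ ≫ ·) e)))
    refine ⟨fun x => ⟨x ≫ eu, by rw [Category.assoc, het, Category.comp_id],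
      by rw [Category.assoc, hes, Category.comp_id]⟩, ?_, ?_⟩
    · rintro x y ⟨r, rfl, rfl⟩
      exact ⟨r ≫ iv, by rw [Category.assoc, hvt], by rw [Category.assoc, hvs]⟩
    · rintro x y z ⟨r, rfl, rfl⟩ ⟨r', h₁, rfl⟩
      refine ⟨pullback.lift r r' h₁.symm ≫ cm, ?_, ?_⟩
      · rw [Category.assoc, hct, pullback.lift_fst_assoc]
      · rw [Category.assoc, hcs, pullback.lift_snd_assoc]

end Groth.Agent.UFO
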