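import Groth.Agent.CAlgUI.DescentProj
import Mathlib.Algebra.TrivSqZeroExt.Basic
import Mathlib.RingTheory.Flat.FaithfullyFlat.Algebra
import Mathlib.RingTheory.Ideal.Quotient.Operations
import Mathlib.LinearAlgebra.TensorProduct.Tower

/-!
# Retractions of square zero extensions exist when they exist after a faithfully flat base change

If `C → A ⧸ I` is a square zero extension under `A` such that the lifting problems for `C` over a faithfully flat
`A`-algebra `P` are solvable, then `C` has a retraction to `A`: the module `ker (C ⧸ IC → A ⧸ I)` becomes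
projective over `P ⧸ IP`, so it is projective.
-/

set_option autoImplicit false
set_option backward.isDefEq.respectTransparency false

universe u

open TensorProduct

namespace Groth.Agent.UFO

section Linear

variable {A R S C₁ M N : Type u} [CommRing A] [CommRing R] [CommRing S] [CommRing C₁] [Algebra A R] [Algebra A S]
  [Algebra R S] [IsScalarTower A R S] [Algebra A C₁] [Algebra R C₁] [IsScalarTower A R C₁]
  [AddCommGroup M] [AddCommGroup N] [Module S M] [Module S N] [Module R M] [Module R N]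
  [IsScalarTower R S M] [IsScalarTower R S N] [Module A M] [Module A N] [IsScalarTower A S M] [IsScalarTower A S N]

/-- Liftings of algebra maps to trivial square zero extensions give liftings of linear maps on the kernel of an
augmentation. -/
theorem exists_lift_linear (hR : Function.Surjective (algebraMap A R)) (ε : C₁ →ₐ[R] R)
    (hε : ∀ x y : C₁, ε x = 0 → ε y = 0 → x * y = 0) (f : M →ₗ[S] N) (hf : Function.Surjective f)
    (g : LinearMap.ker ε.toLinearMap →ₗ[R] N)
    (H : ∀ (D : Type u) [CommRing D] [Algebra A D], (S →ₐ[A] D) → ∀ (J J' : Ideal D) (hJ : J ≤ J'), J' ^ 2 = ⊥ →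
      (RingHom.ker (algebraMap A R)).map (algebraMap A D) ≤ J' →
      ∀ γ₀ : C₁ →ₐ[A] D ⧸ J, (∀ c a, ε c = algebraMap A R a →
        Ideal.Quotient.factor hJ (γ₀ c) = Ideal.Quotient.mk J' (algebraMap A D a)) →
        ∃ γ : C₁ →ₐ[A] D, (Ideal.Quotient.mkₐ A J).comp γ = γ₀) :
    ∃ h : LinearMap.ker ε.toLinearMap →ₗ[R] M, ∀ x, f (h x) = g x := by
  let _ : Module Sᵐᵒᵖ M := Module.compHom M ((RingHom.id S).fromOpposite mul_comm)
  let _ : Module Sᵐᵒᵖ N := Module.compHom N ((RingHom.id S).fromOpposite mul_comm)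
  have : IsCentralScalar S M := ⟨fun _ _ => rfl⟩
  have : IsCentralScalar S N := ⟨fun _ _ => rfl⟩
  have : IsScalarTower A Sᵐᵒᵖ M := ⟨fun a s m => smul_assoc a s.unop m⟩
  have : IsScalarTower A Sᵐᵒᵖ N := ⟨fun a s m => smul_assoc a s.unop m⟩
  have : IsScalarTower A S (TrivSqZeroExt S M) := IsScalarTower.of_algebraMap_eq fun _ => rfl
  have : IsScalarTower A S (TrivSqZeroExt S N) := IsScalarTower.of_algebraMap_eq fun _ => rfl
  let δ : C₁ →ₗ[R] LinearMap.ker ε.toLinearMap :=
    LinearMap.codRestrict _ (LinearMap.id - (Algebra.linearMap R C₁).comp ε.toLinearMap) fun x => by simp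
  have hδ : ∀ x, ((δ x : _) : C₁) = x - algebraMap R C₁ (ε x) := fun _ => rfl
  have hδmul : ∀ x y, δ (x * y) = ε x • δ y + ε y • δ x := fun x y => by
    refine Subtype.ext ?_
    rw [hδ, Submodule.coe_add, Submodule.coe_smul, Submodule.coe_smul, hδ, hδ, Algebra.smul_def,
      Algebra.smul_def, map_mul, map_mul]
    have := hε (x - algebraMap R C₁ (ε x)) (y - algebraMap R C₁ (ε y)) (by simp) (by simp)
    linear_combination this
  let G : C₁ →ₐ[A] (TrivSqZeroExt S N) :=
    { toFun := fun x => TrivSqZeroExt.inl (algebraMap R S (ε x)) + TrivSqZeroExt.inr (g (δ x))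
      map_one' := by
        have : δ 1 = 0 := Subtype.ext (by simp [hδ])
        refine TrivSqZeroExt.ext ?_ ?_ <;> simp [this]
      map_mul' := fun x y => by
        refine TrivSqZeroExt.ext ?_ ?_
        · simp
        · simp only [TrivSqZeroExt.snd_add, TrivSqZeroExt.snd_inl, TrivSqZeroExt.snd_inr, zero_add,
            TrivSqZeroExt.snd_mul, TrivSqZeroExt.fst_add, TrivSqZeroExt.fst_inl, TrivSqZeroExt.fst_inr, add_zero,
            hδmul, map_add, map_smul, op_smul_eq_smul, algebraMap_smul]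
      map_zero' := by simp
      map_add' := fun x y => by
        simp only [map_add, TrivSqZeroExt.inl_add, TrivSqZeroExt.inr_add]
        abel
      commutes' := fun a => by
        have : δ (algebraMap A C₁ a) = 0 := Subtype.ext (by
          simp [hδ, IsScalarTower.algebraMap_apply A R C₁])
        rw [this, map_zero, TrivSqZeroExt.inr_zero, add_zero, IsScalarTower.algebraMap_apply A R C₁,
          AlgHom.commutes, Algebra.algebraMap_self, RingHom.id_apply, ← IsScalarTower.algebraMap_apply A R S]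
        rfl }
  let F : (TrivSqZeroExt S M) →ₐ[A] (TrivSqZeroExt S N) := (TrivSqZeroExt.map f).restrictScalars A
  have hF : Function.Surjective F := fun z => by
    obtain ⟨m, hm⟩ := hf z.snd
    refine ⟨TrivSqZeroExt.inl z.fst + TrivSqZeroExt.inr m, TrivSqZeroExt.ext ?_ ?_⟩
    · simp [F]
    · simp [F, hm]
  let J' : Ideal (TrivSqZeroExt S M) := RingHom.ker (TrivSqZeroExt.fstHom A S M)
  have hJ : RingHom.ker F ≤ J' := fun d hd => by
    have := congrArg TrivSqZeroExt.fst (RingHom.mem_ker.1 hd)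
    simpa [F, J'] using this
  have hJ' : J' ^ 2 = ⊥ := by
    rw [pow_two, eq_bot_iff, Ideal.mul_le]
    intro x hx y hy
    have hx' : x.fst = 0 := RingHom.mem_ker.1 hx
    have hy' : y.fst = 0 := RingHom.mem_ker.1 hy
    rw [Ideal.mem_bot]
    refine TrivSqZeroExt.ext ?_ ?_ <;> simp [hx', hy']
  have hI : (RingHom.ker (algebraMap A R)).map (algebraMap A (TrivSqZeroExt S M)) ≤ J' := by
    refine Ideal.map_le_iff_le_comap.2 fun a ha => ?_
    change algebraMap A S a = 0
    rw [IsScalarTower.algebraMap_apply A R S, RingHom.mem_ker.1 ha, map_zero]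
  let e := Ideal.quotientKerAlgEquivOfSurjective hF
  obtain ⟨γ, hγ⟩ := H (TrivSqZeroExt S M) (TrivSqZeroExt.inlAlgHom A S M) (RingHom.ker F) J' hJ hJ' hI
    (e.symm.toAlgHom.comp G) (fun c a hca => by
      obtain ⟨d, hd⟩ := hF (G c)
      have hd' : e.symm (G c) = Ideal.Quotient.mk _ d := by
        rw [← hd]
        exact Ideal.quotientKerAlgEquivOfSurjective_symm_apply hF d
      change Ideal.Quotient.factor hJ (e.symm (G c)) = _
      rw [hd', Ideal.Quotient.factor_mk, Ideal.Quotient.eq]
      have h1 : d.fst = algebraMap R S (ε c) := by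
        have := congrArg TrivSqZeroExt.fst hd
        simpa [F, G] using this
      change (d - algebraMap A (TrivSqZeroExt S M) a).fst = 0
      rw [TrivSqZeroExt.fst_sub, h1, hca, ← IsScalarTower.algebraMap_apply A R S, TrivSqZeroExt.algebraMap_eq_inl',
        TrivSqZeroExt.fst_inl, sub_self])
  have key : ∀ c, F (γ c) = G c := fun c => by
    have := congrArg e (DFunLike.congr_fun hγ c)
    simpa [e] using this
  let h₀ : LinearMap.ker ε.toLinearMap →ₗ[A] M :=
    { toFun := fun x => (γ x).snd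
      map_add' := fun x y => by simp
      map_smul' := fun a x => by
        have h : (((a • x : _) : LinearMap.ker ε.toLinearMap) : C₁) = a • (x : C₁) := rfl
        rw [h, map_smul, TrivSqZeroExt.snd_smul, RingHom.id_apply] }
  have : IsScalarTower A R M := IsScalarTower.of_algebraMap_smul fun a m => by
    rw [← algebraMap_smul S (algebraMap A R a), ← IsScalarTower.algebraMap_apply A R S, algebraMap_smul]
  refine ⟨h₀.extendScalarsOfSurjective hR, fun x => ?_⟩
  have hx : ε (x : C₁) = 0 := x.2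
  have hδx : δ (x : C₁) = x := Subtype.ext (by simp [hδ, hx])
  have := congrArg TrivSqZeroExt.snd (key (x : C₁))
  simpa [F, G, h₀, hδx] using this

end Linear

/-- A square zero extension whose lifting problems over a faithfully flat algebra are solvable has a retraction. -/
theorem exists_retraction_of_lifts {A C P : Type u} [CommRing A] [CommRing C] [CommRing P] [Algebra A C]
    [Algebra A P] [Module.FaithfullyFlat A P] (I : Ideal A) (hI : I ^ 2 = ⊥) (π : C →ₐ[A] A ⧸ I)
    (hK : RingHom.ker π ^ 2 = ⊥)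
    (H : ∀ (D : Type u) [CommRing D] [Algebra A D], (P →ₐ[A] D) → ∀ (J J' : Ideal D) (hJ : J ≤ J'), J' ^ 2 = ⊥ →
      I.map (algebraMap A D) ≤ J' →
      ∀ γ₀ : C →ₐ[A] D ⧸ J, (∀ c a, π c = Ideal.Quotient.mk I a →
        Ideal.Quotient.factor hJ (γ₀ c) = Ideal.Quotient.mk J' (algebraMap A D a)) →
        ∃ γ : C →ₐ[A] D, (Ideal.Quotient.mkₐ A J).comp γ = γ₀) :
    ∃ r : C →ₐ[A] A, (Ideal.Quotient.mkₐ A I).comp r = π := by
  have hπA : ∀ a, π (algebraMap A C a) = Ideal.Quotient.mk I a := fun a => π.commutes a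
  -- the base is injective on `I`
  have hinj : ∀ a ∈ I, algebraMap A C a = 0 → a = 0 := by
    intro a _ ha
    let J₀ : Ideal P := I.map (algebraMap A P)
    have hJ' : J₀ ^ 2 = ⊥ := by rw [← Ideal.map_pow, hI, Ideal.map_bot]
    let a' : (A ⧸ I) →ₐ[A] P ⧸ J₀ := Ideal.Quotient.liftₐ I ((Ideal.Quotient.mkₐ A J₀).comp (Algebra.ofId A P))
      (fun b hb => Ideal.Quotient.eq_zero_iff_mem.2 (Ideal.mem_map_of_mem _ hb))
    obtain ⟨γ, -⟩ := H P (AlgHom.id A P) J₀ J₀ le_rfl hJ' le_rfl (a'.comp π)
      (fun c b hcb => (congrArg (fun z => Ideal.Quotient.factor le_rfl (a' z)) hcb).trans rfl)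
    apply FaithfulSMul.algebraMap_injective A P
    rw [← γ.commutes a, ha, map_zero, map_zero]
  -- the algebra modulo `I`
  let L : Ideal C := I.map (algebraMap A C)
  let _ : Algebra (A ⧸ I) (C ⧸ L) := Ideal.Quotient.algebraQuotientOfLEComap Ideal.le_comap_map
  have : IsScalarTower A (A ⧸ I) (C ⧸ L) := IsScalarTower.of_algebraMap_eq fun _ => rfl
  have hLK : ∀ x ∈ L, π x = 0 := fun x hx => by
    refine RingHom.mem_ker.1 (?_ : x ∈ RingHom.ker π)
    refine (Ideal.map_le_iff_le_comap.2 fun a ha => ?_) hx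
    rw [Ideal.mem_comap, RingHom.mem_ker, hπA]
    exact Ideal.Quotient.eq_zero_iff_mem.2 ha
  have hmksurj : Function.Surjective (algebraMap A (A ⧸ I)) := Ideal.Quotient.mk_surjective
  let ε : (C ⧸ L) →ₐ[A ⧸ I] A ⧸ I := (Ideal.Quotient.liftₐ L π hLK).extendScalarsOfSurjective hmksurj
  have hεmk : ∀ c, ε (Ideal.Quotient.mk L c) = π c := fun c => rfl
  have hε : ∀ x y, ε x = 0 → ε y = 0 → x * y = 0 := fun x y hx hy => by
    obtain ⟨x, rfl⟩ := Ideal.Quotient.mk_surjective x
    obtain ⟨y, rfl⟩ := Ideal.Quotient.mk_surjective y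
    have : x * y ∈ RingHom.ker π ^ 2 := pow_two (RingHom.ker π) ▸
      Ideal.mul_mem_mul (RingHom.mem_ker.2 hx) (RingHom.mem_ker.2 hy)
    rw [hK, Ideal.mem_bot] at this
    rw [← map_mul, this, map_zero]
  let Q := LinearMap.ker ε.toLinearMap
  -- projectivity
  have hQ : Module.Projective (A ⧸ I) Q := by
    let S := (A ⧸ I) ⊗[A] P
    have : Module.FaithfullyFlat (A ⧸ I) S := inferInstance
    have : Module.Projective S (S ⊗[A ⧸ I] Q) := by
      refine Module.Projective.of_lifting_property'' fun f hf => ?_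
      obtain ⟨h, hh⟩ := exists_lift_linear (A := A) (R := A ⧸ I) (S := S) (M := (S ⊗[A ⧸ I] Q) →₀ S) (N := S ⊗[A ⧸ I] Q) hmksurj ε hε f hf
        (TensorProduct.mk (A ⧸ I) S Q 1) fun D _ _ ν J J' hJ hJ' hID γ₀ hγ₀ => by
          rw [Ideal.Quotient.algebraMap_eq, Ideal.mk_ker] at hID
          obtain ⟨γ, hγ⟩ := H D (ν.comp (Algebra.TensorProduct.includeRight : P →ₐ[A] (A ⧸ I) ⊗[A] P)) J J' hJ hJ' hID
            (γ₀.comp (Ideal.Quotient.mkₐ A L)) fun c a hca => hγ₀ _ a (by
              rw [Ideal.Quotient.algebraMap_eq]; exact (hεmk c).trans hca)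
          have hL : ∀ x ∈ L, γ x = 0 := fun x hx => by
            refine RingHom.mem_ker.1 (?_ : x ∈ RingHom.ker γ)
            refine (Ideal.map_le_iff_le_comap.2 fun a ha => ?_) hx
            rw [Ideal.mem_comap, RingHom.mem_ker, AlgHom.commutes]
            rw [← ν.commutes a, IsScalarTower.algebraMap_apply A (A ⧸ I) ((A ⧸ I) ⊗[A] P),
              Ideal.Quotient.algebraMap_eq, Ideal.Quotient.eq_zero_iff_mem.2 ha, map_zero, map_zero]
          refine ⟨Ideal.Quotient.liftₐ L γ hL, AlgHom.ext fun x => ?_⟩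
          obtain ⟨c, rfl⟩ := Ideal.Quotient.mk_surjective x
          exact DFunLike.congr_fun hγ c
      refine ⟨LinearMap.liftBaseChange S h, ?_⟩
      ext x
      simp only [LinearMap.coe_comp, Function.comp_apply, LinearMap.liftBaseChange_tmul, one_smul, LinearMap.id_coe, id_eq,
        TensorProduct.AlgebraTensorModule.curry_apply, LinearMap.coe_restrictScalars, TensorProduct.curry_apply]
      exact hh x
    exact CAlgUI.projective_descent (S := S)
  -- a section on the kernel
  let K : Submodule A C := LinearMap.ker π.toLinearMap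
  have hIK : ∀ k ∈ K, I ≤ LinearMap.ker (LinearMap.toSpanSingleton A C k) := fun k hk a ha => by
    have : algebraMap A C a * k ∈ RingHom.ker π ^ 2 := pow_two (RingHom.ker π) ▸ Ideal.mul_mem_mul
      (RingHom.mem_ker.2 ((hπA a).trans (Ideal.Quotient.eq_zero_iff_mem.2 ha))) (RingHom.mem_ker.2 hk)
    rw [hK, Ideal.mem_bot] at this
    simpa [Algebra.smul_def] using this
  obtain ⟨s, hs⟩ := Module.projective_def'.1 hQ
  have hpre : ∀ q : Q, ∃ k ∈ K, Ideal.Quotient.mk L k = q := fun q => by
    obtain ⟨k, hk⟩ := Ideal.Quotient.mk_surjective (q : C ⧸ L)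
    refine ⟨k, ?_, hk⟩
    change π k = 0
    rw [← hεmk, hk]
    exact q.2
  choose k hkK hkq using hpre
  let σ : Q →ₗ[A] C :=
    (Finsupp.lsum A fun q => Submodule.liftQ I (LinearMap.toSpanSingleton A C (k q)) (hIK _ (hkK q))).comp
      (s.restrictScalars A)
  have hσK : ∀ q, π (σ q) = 0 := fun q => by
    have hk0 : ∀ q, π (k q) = 0 := hkK
    simp only [σ, LinearMap.coe_comp, Function.comp_apply, Finsupp.lsum_apply, Finsupp.sum, map_sum]
    refine Finset.sum_eq_zero fun x _ => ?_
    generalize (s.restrictScalars A q) x = r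
    obtain ⟨a, rfl⟩ := Ideal.Quotient.mk_surjective r
    change π (a • k x) = 0
    rw [Algebra.smul_def, map_mul, hk0, mul_zero]
  have hσq : ∀ q : Q, Ideal.Quotient.mk L (σ q) = q := fun q => by
    have h1 := congrArg Subtype.val (LinearMap.congr_fun hs q)
    simp only [LinearMap.coe_comp, Function.comp_apply, LinearMap.id_coe, id_eq, Finsupp.linearCombination_apply,
      Finsupp.sum, AddSubmonoidClass.coe_finsetSum] at h1
    simp only [σ, LinearMap.coe_comp, Function.comp_apply, Finsupp.lsum_apply, Finsupp.sum, map_sum,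
      LinearMap.coe_restrictScalars]
    refine Eq.trans (Finset.sum_congr rfl fun x _ => ?_) h1
    generalize (s q) x = r
    obtain ⟨a, rfl⟩ := Ideal.Quotient.mk_surjective r
    rw [Submodule.coe_smul, ← hkq x]
    change Ideal.Quotient.mk L (a • k x) = _
    rw [Algebra.smul_def, map_mul]
    exact (Algebra.smul_def (Ideal.Quotient.mk I a) (Ideal.Quotient.mk L (k x))).symm
  -- the decomposition
  have hmulL : ∀ l ∈ L, ∀ c, π c = 0 → l * c = 0 := fun l hl c hc => by
    have : l * c ∈ RingHom.ker π ^ 2 := pow_two (RingHom.ker π) ▸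
      Ideal.mul_mem_mul (RingHom.mem_ker.2 (hLK l hl)) (RingHom.mem_ker.2 hc)
    rwa [hK, Ideal.mem_bot] at this
  have hLimage : ∀ l ∈ L, ∃ a ∈ I, algebraMap A C a = l := by
    intro l hl
    induction hl using Submodule.span_induction with
    | mem x hx => exact hx
    | zero => exact ⟨0, I.zero_mem, map_zero _⟩
    | add x y _ _ hx hy =>
      obtain ⟨a, ha, rfl⟩ := hx
      obtain ⟨b, hb, rfl⟩ := hy
      exact ⟨a + b, I.add_mem ha hb, map_add _ _ _⟩
    | smul c x _ hx =>
      obtain ⟨a, ha, rfl⟩ := hx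
      obtain ⟨b, hb⟩ := Ideal.Quotient.mk_surjective (π c)
      refine ⟨b * a, I.mul_mem_left b ha, ?_⟩
      have := hmulL (algebraMap A C a) (Ideal.mem_map_of_mem _ ha) (c - algebraMap A C b)
        (by rw [map_sub, hπA, hb, sub_self])
      rw [map_mul, smul_eq_mul]
      linear_combination -this
  let Φ : A × Q →ₗ[A] C := LinearMap.coprod (Algebra.linearMap A C) σ
  have hΦ : ∀ a q, Φ (a, q) = algebraMap A C a + σ q := fun _ _ => rfl
  have hΦπ : ∀ a q, π (Φ (a, q)) = Ideal.Quotient.mk I a := fun a q => by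
    rw [hΦ, map_add, hπA, hσK, add_zero]
  have hbij : Function.Bijective Φ := by
    refine ⟨LinearMap.ker_eq_bot.1 (eq_bot_iff.2 fun x hx => ?_), fun c => ?_⟩
    · obtain ⟨a, q⟩ := x
      have h0 : Φ (a, q) = 0 := hx
      have haI : a ∈ I := by
        rw [← Ideal.Quotient.eq_zero_iff_mem, ← hΦπ a q, h0, map_zero]
      rw [hΦ] at h0
      have hq : q = 0 := Subtype.ext (by
        rw [← hσq q, eq_neg_of_add_eq_zero_right h0, map_neg,
          Ideal.Quotient.eq_zero_iff_mem.2 (Ideal.mem_map_of_mem _ haI), neg_zero]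
        rfl)
      rw [hq, map_zero, add_zero] at h0
      simp [hq, hinj a haI h0]
    · obtain ⟨a, ha⟩ := Ideal.Quotient.mk_surjective (π c)
      have hk : π (c - algebraMap A C a) = 0 := by rw [map_sub, hπA, ha, sub_self]
      let q : Q := ⟨Ideal.Quotient.mk L (c - algebraMap A C a), (hεmk _).trans hk⟩
      obtain ⟨b, -, hb⟩ := hLimage (c - algebraMap A C a - σ q) (by
        rw [← Ideal.Quotient.eq_zero_iff_mem, map_sub, hσq, sub_self])
      refine ⟨(a + b, q), ?_⟩
      rw [hΦ, map_add, hb]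
      ring
  let Φe := LinearEquiv.ofBijective Φ hbij
  have hr : ∀ c a q, c = Φ (a, q) → (Φe.symm c).1 = a := fun c a q h => by
    rw [h, show Φe.symm (Φ (a, q)) = (a, q) from Φe.symm_apply_apply (a, q)]
  refine ⟨AlgHom.ofLinearMap ((LinearMap.fst A A Q).comp Φe.symm.toLinearMap) ?_ ?_, AlgHom.ext fun c => ?_⟩
  · change (Φe.symm 1).1 = 1
    exact hr 1 1 0 (by rw [hΦ, map_one, map_zero, add_zero])
  · intro x y
    obtain ⟨⟨a, q⟩, rfl⟩ := hbij.2 x
    obtain ⟨⟨b, p⟩, rfl⟩ := hbij.2 y
    have h0 : σ q * σ p = 0 := by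
      have : σ q * σ p ∈ RingHom.ker π ^ 2 := pow_two (RingHom.ker π) ▸
        Ideal.mul_mem_mul (RingHom.mem_ker.2 (hσK q)) (RingHom.mem_ker.2 (hσK p))
      rwa [hK, Ideal.mem_bot] at this
    refine (hr _ (a * b) (a • p + b • q) ?_).trans ?_
    · rw [hΦ, hΦ, hΦ, map_mul, map_add, map_smul, map_smul, Algebra.smul_def, Algebra.smul_def]
      linear_combination h0
    · exact congrArg₂ (· * ·) (hr _ a q rfl).symm (hr _ b p rfl).symm
  · obtain ⟨⟨a, q⟩, rfl⟩ := hbij.2 c
    exact (congrArg (Ideal.Quotient.mk I) (hr _ a q rfl)).trans (hΦπ a q).symm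

end Groth.Agent.UFO
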