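import Groth.Agent.UFO.SmoothAlg
import Mathlib.RingTheory.Flat.FaithfullyFlat.Algebra

/-!
# Lifting problems over finite products of algebras
-/

set_option autoImplicit false
set_option backward.isDefEq.respectTransparency false

universe u

namespace Groth.Agent.UFO

variable {A C : Type u} [CommRing A] [CommRing C] [Algebra A C] {n : ℕ} (B : Fin n → Type u) [∀ j, CommRing (B j)]
  [∀ j, Algebra A (B j)]

theorem faithfullyFlat_pi [∀ j, Module.Flat A (B j)]
    (hB : ∀ p : PrimeSpectrum A, ∃ j q, PrimeSpectrum.comap (algebraMap A (B j)) q = p) :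
    Module.FaithfullyFlat A (∀ j, B j) := by
  classical
  have : Module.Flat A (∀ j, B j) := Module.Flat.of_linearEquiv DFinsupp.linearEquivFunOnFintype.symm
  refine Module.FaithfullyFlat.of_comap_surjective fun p => ?_
  obtain ⟨j, q, rfl⟩ := hB p
  exact ⟨PrimeSpectrum.comap (Pi.evalRingHom B j) q, PrimeSpectrum.ext (by rfl)⟩

/-- Lifting problems solvable over each factor are solvable over the product. -/
theorem lifts_pi (I : Ideal A) (π : C →ₐ[A] A ⧸ I)
    (H : ∀ (j : Fin n) (D : Type u) [CommRing D] [Algebra A D], (B j →ₐ[A] D) → ∀ (J J' : Ideal D) (hJ : J ≤ J'),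
      J' ^ 2 = ⊥ → I.map (algebraMap A D) ≤ J' → ∀ γ₀ : C →ₐ[A] D ⧸ J, (∀ c a, π c = Ideal.Quotient.mk I a →
        Ideal.Quotient.factor hJ (γ₀ c) = Ideal.Quotient.mk J' (algebraMap A D a)) →
        ∃ γ : C →ₐ[A] D, (Ideal.Quotient.mkₐ A J).comp γ = γ₀)
    (D : Type u) [CommRing D] [Algebra A D] (ν : (∀ j, B j) →ₐ[A] D) (J J' : Ideal D) (hJ : J ≤ J')
    (hJ' : J' ^ 2 = ⊥) (hID : I.map (algebraMap A D) ≤ J') (γ₀ : C →ₐ[A] D ⧸ J)
    (hγ₀ : ∀ c a, π c = Ideal.Quotient.mk I a →
      Ideal.Quotient.factor hJ (γ₀ c) = Ideal.Quotient.mk J' (algebraMap A D a)) :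
    ∃ γ : C →ₐ[A] D, (Ideal.Quotient.mkₐ A J).comp γ = γ₀ := by
  classical
  let e : Fin n → D := fun j => ν (Pi.single j 1)
  have hee : ∀ j, e j * e j = e j := fun j => by rw [← map_mul, ← Pi.single_mul, one_mul]
  have hne : ∀ i j, i ≠ j → e i * e j = 0 := fun i j h => by
    rw [← map_mul, ← map_zero ν]
    congr 1
    funext k
    rcases eq_or_ne k i with rfl | hk <;> simp_all
  have hsum : ∑ j, e j = 1 := by
    rw [← map_sum, ← map_one ν]
    congr 1
    exact Finset.univ_sum_single (1 : ∀ j, B j)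
  let N : Fin n → Ideal D := fun j => Ideal.span {1 - e j}
  let ψ : ∀ j, (D ⧸ N j) →ₗ[D] D := fun j => Submodule.liftQ (N j) (LinearMap.mulLeft D (e j))
    (Submodule.span_le.2 fun x hx => by
      rw [Set.mem_singleton_iff.1 hx, SetLike.mem_coe, LinearMap.mem_ker, LinearMap.mulLeft_apply, mul_sub, hee,
        mul_one, sub_self])
  have hψ : ∀ j d, ψ j (Ideal.Quotient.mk (N j) d) = e j * d := fun j d => rfl
  have hlift : ∀ j, ∃ γ : C →ₐ[A] D ⧸ N j, ∀ c d, γ₀ c = Ideal.Quotient.mk J d →
      ∃ x ∈ J, γ c - Ideal.Quotient.mk (N j) d = Ideal.Quotient.mk (N j) x := by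
    intro j
    let νj : B j →ₐ[A] D ⧸ N j :=
      { toFun := fun b => Ideal.Quotient.mk (N j) (ν (Pi.single j b))
        map_one' := by
          rw [← map_one (Ideal.Quotient.mk (N j)), eq_comm, Ideal.Quotient.eq]
          exact Ideal.subset_span rfl
        map_mul' := fun x y => by simp only [Pi.single_mul, map_mul]
        map_zero' := by simp
        map_add' := fun x y => by simp only [Pi.single_add, map_add]
        commutes' := fun a => by
          have : (Pi.single j (algebraMap A (B j) a) : ∀ k, B k) =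
              algebraMap A (∀ k, B k) a * Pi.single j 1 := by
            funext k
            rcases eq_or_ne k j with rfl | hk <;> simp_all
          rw [this, map_mul, map_mul, AlgHom.commutes, show Ideal.Quotient.mk (N j) (ν (Pi.single j 1)) = 1 by
            rw [← map_one (Ideal.Quotient.mk (N j)), eq_comm, Ideal.Quotient.eq]
            exact Ideal.subset_span rfl, mul_one]
          rfl }
    obtain ⟨γ, hγ⟩ := H j (D ⧸ N j) νj (J.map (Ideal.Quotient.mk (N j))) (J'.map (Ideal.Quotient.mk (N j)))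
      (Ideal.map_mono hJ) (by rw [← Ideal.map_pow, hJ', Ideal.map_bot]) (by
        rw [show algebraMap A (D ⧸ N j) = (Ideal.Quotient.mk (N j)).comp (algebraMap A D) from rfl, ← Ideal.map_map]
        exact Ideal.map_mono hID)
      ((Ideal.quotientMapₐ _ (Ideal.Quotient.mkₐ A (N j)) Ideal.le_comap_map).comp γ₀) (fun c a hca => by
        obtain ⟨d, hd⟩ := Ideal.Quotient.mk_surjective (γ₀ c)
        have h' := hγ₀ c a hca
        rw [← hd, Ideal.Quotient.factor_mk, Ideal.Quotient.eq] at h'
        change Ideal.Quotient.factor _ (Ideal.quotientMap _ (Ideal.Quotient.mk (N j)) Ideal.le_comap_map (γ₀ c)) = _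
        rw [← hd]
        change Ideal.Quotient.mk _ (Ideal.Quotient.mk (N j) d) =
          Ideal.Quotient.mk _ (Ideal.Quotient.mk (N j) (algebraMap A D a))
        rw [Ideal.Quotient.eq, ← map_sub]
        exact Ideal.mem_map_of_mem _ h')
    refine ⟨γ, fun c d hd => ?_⟩
    have h1 : Ideal.Quotient.mk (J.map (Ideal.Quotient.mk (N j))) (γ c) =
        Ideal.Quotient.mk _ (Ideal.Quotient.mk (N j) d) :=
      (DFunLike.congr_fun hγ c).trans (congrArg
        (Ideal.quotientMap (J.map (Ideal.Quotient.mk (N j))) (Ideal.Quotient.mk (N j)) Ideal.le_comap_map) hd)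
    obtain ⟨x, hx, hx'⟩ := (Ideal.mem_map_iff_of_surjective _ Ideal.Quotient.mk_surjective).1
      (Ideal.Quotient.eq.1 h1)
    exact ⟨x, hx, hx'.symm⟩
  choose γ hγ using hlift
  have hψmul : ∀ (j : Fin n) (x y : D ⧸ N j), ψ j (x * y) = ψ j x * ψ j y := fun j x y => by
    obtain ⟨x, rfl⟩ := Ideal.Quotient.mk_surjective x
    obtain ⟨y, rfl⟩ := Ideal.Quotient.mk_surjective y
    rw [← map_mul, hψ, hψ, hψ, mul_mul_mul_comm, hee]
  have hψo : ∀ (i j : Fin n), i ≠ j → ∀ x y, ψ i x * ψ j y = 0 := fun i j h x y => by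
    obtain ⟨x, rfl⟩ := Ideal.Quotient.mk_surjective x
    obtain ⟨y, rfl⟩ := Ideal.Quotient.mk_surjective y
    rw [hψ, hψ, mul_mul_mul_comm, hne i j h, zero_mul]
  let G : C →ₐ[A] D :=
    { toFun := fun c => ∑ j, ψ j (γ j c)
      map_one' := by
        rw [← hsum]
        refine Finset.sum_congr rfl fun j _ => ?_
        rw [map_one, ← map_one (Ideal.Quotient.mk (N j)), hψ, mul_one]
      map_mul' := fun x y => by
        rw [Finset.sum_mul_sum]
        refine Finset.sum_congr rfl fun i _ => ?_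
        rw [Finset.sum_eq_single i (fun k _ hk => hψo i k hk.symm _ _) (by simp), map_mul, hψmul]
      map_zero' := by simp
      map_add' := fun x y => by simp only [map_add, Finset.sum_add_distrib]
      commutes' := fun a => by
        have : ∀ j, γ j (algebraMap A C a) = Ideal.Quotient.mk (N j) (algebraMap A D a) := fun j => (γ j).commutes a
        simp only [this, hψ, ← Finset.sum_mul, hsum, one_mul] }
  refine ⟨G, AlgHom.ext fun c => ?_⟩
  obtain ⟨d, hd⟩ := Ideal.Quotient.mk_surjective (γ₀ c)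
  rw [← hd]
  refine Ideal.Quotient.eq.2 ?_
  have h1 : ∀ j, ψ j (γ j c) - e j * d ∈ J := fun j => by
    obtain ⟨x, hx, hx'⟩ := hγ j c d hd.symm
    rw [← hψ, ← map_sub, hx', hψ]
    exact J.mul_mem_left _ hx
  have h2 : G c - d = ∑ j, (ψ j (γ j c) - e j * d) := by
    rw [Finset.sum_sub_distrib, ← Finset.sum_mul, hsum, one_mul]
    rfl
  change G c - d ∈ J
  rw [h2]
  exact Submodule.sum_mem _ fun j _ => h1 j

end Groth.Agent.UFO
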