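import Groth.Agent.UFO.Exists
import Groth.Agent.UFO.SmoothPi
import Groth.Agent.AlgSpLib.ThickScheme

/-!
# Formal smoothness can be tested after faithfully flat base change

The lifts in an infinitesimal square correspond to retractions of the universal first order thickening of
`T` over `T' ×_Y X`, an affine scheme.
-/

set_option autoImplicit false
set_option backward.isDefEq.respectTransparency false
set_option backward.isDefEq.respectTransparency.types false

universe u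

open CategoryTheory CategoryTheory.Limits AlgebraicGeometry Opposite AlgSp

namespace Groth.Agent.UFO

open Groth.Agent.AlgSpLib

variable {S : Scheme.{u}} {A : Type u} [CommRing A] (str : Spec (CommRingCat.of A) ⟶ S)

/-- The affine scheme of an `A`-algebra, over `S`. -/
noncomputable abbrev tOb (D : Type u) [CommRing D] [Algebra A D] : Over S :=
  Over.mk (Spec.map (CommRingCat.ofHom (algebraMap A D)) ≫ str)

/-- The map of sheaves of an algebra map. -/
noncomputable def tMap {D E : Type u} [CommRing D] [Algebra A D] [CommRing E] [Algebra A E] (γ : D →ₐ[A] E) :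
    (yon S).obj (tOb str E) ⟶ (yon S).obj (tOb str D) :=
  (yon S).map (Over.homMk (Spec.map (CommRingCat.ofHom γ.toRingHom)) (by
    change Spec.map _ ≫ Spec.map _ ≫ str = Spec.map _ ≫ str
    rw [← Spec.map_comp_assoc, ← CommRingCat.ofHom_comp]
    congr 3
    exact γ.comp_algebraMap))

/-- The map to `Spec A`. -/
noncomputable def tBase (D : Type u) [CommRing D] [Algebra A D] :
    (yon S).obj (tOb str D) ⟶ (yon S).obj (Over.mk str) :=
  (yon S).map (Over.homMk (Spec.map (CommRingCat.ofHom (algebraMap A D))) rfl)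

variable {D E F : Type u} [CommRing D] [Algebra A D] [CommRing E] [Algebra A E] [CommRing F] [Algebra A F]

theorem tMap_comp (γ : E →ₐ[A] F) (δ : D →ₐ[A] E) : tMap str (γ.comp δ) = tMap str γ ≫ tMap str δ :=
  (congrArg (fun k => (yon S).map k) (Over.OverMorphism.ext (by
    change Spec.map _ = Spec.map _ ≫ Spec.map _
    rw [← Spec.map_comp]
    rfl))).trans ((yon S).map_comp _ _)

theorem tMap_comp_assoc {Z : Sp S} (γ : E →ₐ[A] F) (δ : D →ₐ[A] E) (k : (yon S).obj (tOb str D) ⟶ Z) :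
    tMap str (γ.comp δ) ≫ k = tMap str γ ≫ tMap str δ ≫ k := by rw [tMap_comp, Category.assoc]

theorem tMap_base (γ : D →ₐ[A] E) : tMap str γ ≫ tBase str D = tBase str E := by
  refine ((yon S).map_comp _ _).symm.trans (congrArg (fun k => (yon S).map k) (Over.OverMorphism.ext ?_))
  change Spec.map _ ≫ Spec.map _ = Spec.map _
  rw [← Spec.map_comp, ← CommRingCat.ofHom_comp]
  congr 2
  exact γ.comp_algebraMap

theorem exists_tMap (k : (yon S).obj (tOb str E) ⟶ (yon S).obj (tOb str D))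
    (hk : k ≫ tBase str D = tBase str E) : ∃ γ : D →ₐ[A] E, tMap str γ = k := by
  obtain ⟨k, rfl⟩ := (yon S).map_surjective k
  obtain ⟨φ, hφ⟩ := Spec.map_surjective k.left
  have h := congrArg CommaMorphism.left ((yon S).map_injective (((yon S).map_comp _ _).trans hk))
  have h' : CommRingCat.ofHom (algebraMap A D) ≫ φ = CommRingCat.ofHom (algebraMap A E) :=
    Spec.map_injective (by rw [Spec.map_comp, hφ]; exact h)
  refine ⟨AlgHom.mk φ.hom (fun a => congr($h' a)), congrArg (fun k => (yon S).map k) (Over.OverMorphism.ext ?_)⟩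
  exact hφ

theorem tMap_injective {γ δ : D →ₐ[A] E} (h : tMap str γ = tMap str δ) : γ = δ := by
  have h' := congrArg CommaMorphism.left ((yon S).map_injective h)
  have h'' : CommRingCat.ofHom γ.toRingHom = CommRingCat.ofHom δ.toRingHom := Spec.map_injective h'
  exact AlgHom.ext fun x => congr($h'' x)

/-- A lifting problem of a formally smooth morphism along a square zero ideal of an `A`-algebra. -/
theorem exists_lift_tMap {X Y : Sp S} {f : X ⟶ Y} (hf : IsFormallySmoothMor f) (J : Ideal D) (hJ : J ^ 2 = ⊥)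
    (l₀ : (yon S).obj (tOb str (D ⧸ J)) ⟶ X) (β : (yon S).obj (tOb str D) ⟶ Y)
    (w : l₀ ≫ f = tMap str (Ideal.Quotient.mkₐ A J) ≫ β) :
    ∃ l, tMap str (Ideal.Quotient.mkₐ A J) ≫ l = l₀ ∧ l ≫ f = β := by
  have hs : Spec.map (CommRingCat.ofHom (algebraMap A (D ⧸ J))) ≫ str =
      Spec.map (CommRingCat.ofHom (Ideal.Quotient.mk J)) ≫ Spec.map (CommRingCat.ofHom (algebraMap A D)) ≫ str := by
    rw [← Spec.map_comp_assoc]
    rfl
  let c : Over.mk (Spec.map (CommRingCat.ofHom (Ideal.Quotient.mk J)) ≫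
      Spec.map (CommRingCat.ofHom (algebraMap A D)) ≫ str) ≅ tOb str (D ⧸ J) := Over.isoMk (Iso.refl _) (by simp [hs])
  have hc : (yon S).map c.hom ≫ tMap str (Ideal.Quotient.mkₐ A J) =
      (yon S).map (Over.homMk (Spec.map (CommRingCat.ofHom (Ideal.Quotient.mk J))) rfl) :=
    ((yon S).map_comp _ _).symm.trans (congrArg (fun k => (yon S).map k) (Over.OverMorphism.ext (Category.id_comp _)))
  let sq : InfSq f :=
    { A := D, I := J, sq_zero := hJ, str := Spec.map (CommRingCat.ofHom (algebraMap A D)) ≫ str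
      top := (yon S).map c.hom ≫ l₀, bot := β
      comm := by
        exact (Category.assoc _ _ _).trans ((congrArg (_ ≫ ·) w).trans
          ((Category.assoc _ _ _).symm.trans (congrArg (· ≫ β) hc))) }
  obtain ⟨l, h₁, h₂⟩ := hf sq
  refine ⟨l, ?_, h₂⟩
  exact (cancel_epi ((yon S).map c.hom)).1
    ((Category.assoc _ _ _).symm.trans ((congrArg (· ≫ l) hc).trans h₁))

variable {str}

/-- The universal first order thickening of a section, as a ring. -/
theorem exists_univ_ring {X Y : Sp S} (hX : IsAlgSpace X) (hY : IsAlgSpace Y) {f : X ⟶ Y} {I : Ideal A}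
    (top : (yon S).obj (tOb str (A ⧸ I)) ⟶ X) (bot : (yon S).obj (Over.mk str) ⟶ Y)
    (w : top ≫ f = tBase str (A ⧸ I) ≫ bot) :
    ∃ (C : Type u) (_ : CommRing C) (_ : Algebra A C) (π : C →ₐ[A] A ⧸ I) (Λ : (yon S).obj (tOb str C) ⟶ X),
      RingHom.ker π ^ 2 = ⊥ ∧ tMap str π ≫ Λ = top ∧ Λ ≫ f = tBase str C ≫ bot ∧
      ∀ (D D₀ : Type u) [CommRing D] [Algebra A D] [CommRing D₀] [Algebra A D₀] (p : D →ₐ[A] D₀),
        Function.Surjective p → RingHom.ker p ^ 2 = ⊥ → ∀ (a : (A ⧸ I) →ₐ[A] D₀) (l : (yon S).obj (tOb str D) ⟶ X),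
        l ≫ f = tBase str D ≫ bot → tMap str p ≫ l = tMap str a ≫ top →
          ∃! γ : C →ₐ[A] D, p.comp γ = a.comp π ∧ tMap str γ ≫ Λ = l := by
  have hXT := isAlgSpace_pullback hX (IsAlgSpace.yon_obj (Over.mk str)) hY f bot
  let T : Over S := tOb str (A ⧸ I)
  have : IsAffine T.left := inferInstanceAs (IsAffine (Spec _))
  let s₀ : (yon S).obj T ⟶ pullback f bot := pullback.lift top (tBase str (A ⧸ I)) w
  have hs₀ : IsFormallyUnramifiedMor s₀ := by
    refine isFormallyUnramifiedMor_of_comp (b := pullback.snd f bot) ?_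
    rw [pullback.lift_snd]
    refine isFormallyUnramifiedMor_of_repWith ((repWith_yon_map_iff _ _).2 ?_)
    have : IsClosedImmersion (Spec.map (CommRingCat.ofHom (Ideal.Quotient.mk I))) :=
      IsClosedImmersion.spec_of_surjective _ Ideal.Quotient.mk_surjective
    exact inferInstanceAs (FormallyUnramified (Spec.map (CommRingCat.ofHom (Ideal.Quotient.mk I))))
  obtain ⟨Z', hZ', i, h', H⟩ := exists_univFOThick (IsAlgSpace.yon_obj T) hXT hs₀
  obtain ⟨Q, hQ, ⟨eQ⟩⟩ := exists_affine_of_thick hZ' H.1.1 (Iso.refl _)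
  obtain ⟨iQ, hiQ⟩ := (yon S).map_surjective (i ≫ eQ.inv)
  have hiQ' : IsFOThickMor ((yon S).map iQ) := isFOThickMor_baseChange hZ' H.1
    (IsPullback.of_horiz_isIso (f := i) (snd := (yon S).map iQ) (fst := 𝟙 _) (g := eQ.hom) ⟨by simp [hiQ]⟩)
  obtain ⟨C, K, hK, e', e₀, he₀⟩ :=
    MorLib.exists_iso_quotientMk iQ.left (isFirstOrderThickening_of_isFOThickMor_yon_map hQ hiQ')
  obtain ⟨q, hq⟩ := (yon S).map_surjective (eQ.hom ≫ h' ≫ pullback.snd f bot)
  obtain ⟨φ, hφ⟩ := Spec.map_surjective (e'.hom ≫ q.left : Spec (CommRingCat.of C) ⟶ Spec (CommRingCat.of A))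
  let _ : Algebra A C := φ.hom.toAlgebra
  have hφ' : Spec.map (CommRingCat.ofHom (algebraMap A C)) = e'.hom ≫ q.left := hφ
  have heC : e'.hom ≫ Q.hom = Spec.map (CommRingCat.ofHom (algebraMap A C)) ≫ str := by
    rw [hφ', Category.assoc]
    exact congrArg (e'.hom ≫ ·) (Over.w q).symm
  let o : tOb str C ≅ Q := Over.isoMk e' heC
  let κ : (yon S).obj (tOb str C) ≅ Z' := (yon S).mapIso o ≪≫ eQ
  have hκ : κ.hom ≫ h' ≫ pullback.snd f bot = tBase str C := by
    change ((yon S).map o.hom ≫ eQ.hom) ≫ _ = _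
    rw [Category.assoc, ← hq, ← Functor.map_comp]
    exact congrArg (fun k => (yon S).map k) (Over.OverMorphism.ext hφ'.symm)
  have hsnd : i ≫ h' ≫ pullback.snd f bot = tBase str (A ⧸ I) := by
    rw [reassoc_of% H.2.1, pullback.lift_snd]
  obtain ⟨π, hπ⟩ := exists_tMap str (i ≫ κ.inv) (by rw [← hκ, Category.assoc, κ.inv_hom_id_assoc, hsnd])
  have hπκ : tMap str π ≫ κ.hom = i := by rw [hπ, Category.assoc, κ.inv_hom_id, Category.comp_id]
  refine ⟨C, inferInstance, inferInstance, π, κ.hom ≫ h' ≫ pullback.fst f bot, ?_, ?_, ?_, ?_⟩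
  · -- the kernel is `K`
    obtain ⟨ψ, hψ⟩ := Spec.map_surjective e₀.inv
    obtain ⟨ψ', hψ'⟩ := Spec.map_surjective e₀.hom
    have hψψ : ψ ≫ ψ' = 𝟙 _ := Spec.map_injective (by rw [Spec.map_comp, hψ', hψ, Spec.map_id, e₀.hom_inv_id])
    have hl : Spec.map (CommRingCat.ofHom π.toRingHom) ≫ e'.hom = iQ.left := by
      have e1 : tMap str π ≫ (yon S).map o.hom = (yon S).map iQ := by
        rw [hπ, hiQ]; simp [κ]
      exact congrArg CommaMorphism.left ((yon S).map_injective (((yon S).map_comp _ _).trans e1))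
    have hfac : CommRingCat.ofHom π.toRingHom = CommRingCat.ofHom (Ideal.Quotient.mk K) ≫ ψ :=
      Spec.map_injective (by
        rw [Spec.map_comp, hψ, ← cancel_mono e'.hom, hl, Category.assoc, ← he₀, e₀.inv_hom_id_assoc])
    have hle : RingHom.ker π ≤ K := fun x hx => by
      have h1 : ψ (Ideal.Quotient.mk K x) = 0 := (congr($hfac x)).symm.trans (RingHom.mem_ker.1 hx)
      have h2 := congr($hψψ (Ideal.Quotient.mk K x))
      rw [CommRingCat.comp_apply, h1, map_zero] at h2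
      exact Ideal.Quotient.eq_zero_iff_mem.1 h2.symm
    exact eq_bot_iff.2 ((Ideal.pow_right_mono hle 2).trans hK.le)
  · rw [reassoc_of% hπκ, reassoc_of% H.2.1, pullback.lift_fst]
  · simp only [Category.assoc, pullback.condition]
    rw [reassoc_of% hκ]
  · intro D D₀ _ _ _ _ p hp hker a l hl hla
    have hj : IsFOThickMor (tMap str p) :=
      isFOThickMor_yon _ (UnivThick.isFirstOrderThickening_specMap p.toRingHom hp hker)
    have hb : tMap str p ≫ pullback.lift l (tBase str D) hl = tMap str a ≫ s₀ := by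
      apply pullback.hom_ext <;> simp [s₀, hla, tMap_base]
    obtain ⟨m, ⟨hm₁, hm₂⟩, hm⟩ := H.2.2 (IsAlgSpace.yon_obj _) (IsAlgSpace.yon_obj _) _ (tMap str a)
      (pullback.lift l (tBase str D) hl) hj hb
    obtain ⟨γ, hγ⟩ := exists_tMap str (m ≫ κ.inv) (by
      rw [← hκ, Category.assoc, κ.inv_hom_id_assoc, reassoc_of% hm₂, pullback.lift_snd])
    refine ⟨γ, ⟨tMap_injective str ?_, ?_⟩, fun δ hδ => tMap_injective str ?_⟩
    · rw [tMap_comp, tMap_comp, hγ, reassoc_of% hm₁, hπ]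
    · rw [hγ, Category.assoc, κ.inv_hom_id_assoc, reassoc_of% hm₂, pullback.lift_fst]
    · rw [hγ, ← cancel_mono κ.hom, Category.assoc, κ.inv_hom_id, Category.comp_id]
      refine hm _ ⟨?_, ?_⟩
      · rw [← tMap_comp_assoc, hδ.1, tMap_comp_assoc, hπκ]
      · apply pullback.hom_ext
        · simp only [Category.assoc, pullback.lift_fst]
          exact hδ.2
        · simp only [Category.assoc, pullback.lift_snd]
          rw [hκ, tMap_base]

/-- An infinitesimal square has a lift when all its refinements over a flat covering family of algebras have lifts. -/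
theorem hasLift_of_family {X Y : Sp S} (hX : IsAlgSpace X) (hY : IsAlgSpace Y) {f : X ⟶ Y}
    (sq : InfSq f) {n : ℕ} (B : Fin n → Type u) [∀ j, CommRing (B j)] [∀ j, Algebra sq.A (B j)]
    [∀ j, Module.Flat sq.A (B j)]
    (hB : ∀ p : PrimeSpectrum sq.A, ∃ j q, PrimeSpectrum.comap (algebraMap sq.A (B j)) q = p)
    (H : ∀ (j : Fin n) (D : Type u) [CommRing D] [Algebra sq.A D], (B j →ₐ[sq.A] D) → ∀ (J J' : Ideal D) (hJ : J ≤ J'),
      J' ^ 2 = ⊥ → ∀ (a : (sq.A ⧸ sq.I) →ₐ[sq.A] D ⧸ J') (l₀ : (yon S).obj (tOb sq.str (D ⧸ J)) ⟶ X),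
      l₀ ≫ f = tBase sq.str (D ⧸ J) ≫ sq.bot →
      tMap sq.str (Ideal.Quotient.factorₐ sq.A hJ) ≫ l₀ = tMap sq.str a ≫ sq.top →
      ∃ l, tMap sq.str (Ideal.Quotient.mkₐ sq.A J) ≫ l = l₀ ∧ l ≫ f = tBase sq.str D ≫ sq.bot) : sq.HasLift := by
  obtain ⟨C, _, _, π, Λ, hπK, hΛ₁, hΛ₂, hU⟩ := exists_univ_ring hX hY sq.top sq.bot sq.comm
  have := faithfullyFlat_pi B hB
  obtain ⟨r, hr⟩ := exists_retraction_of_lifts (P := ∀ j, B j) sq.I sq.sq_zero π hπK <|
    lifts_pi B sq.I π fun j D _ _ ν J J' hJ hJ' hID γ₀ hγ₀ => by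
      let a : (sq.A ⧸ sq.I) →ₐ[sq.A] D ⧸ J' := Ideal.Quotient.liftₐ sq.I
        ((Ideal.Quotient.mkₐ sq.A J').comp (Algebra.ofId sq.A D))
        (fun b hb => Ideal.Quotient.eq_zero_iff_mem.2 (hID (Ideal.mem_map_of_mem _ hb)))
      have ha : (Ideal.Quotient.factorₐ sq.A hJ).comp γ₀ = a.comp π := AlgHom.ext fun c => by
        obtain ⟨b, hb⟩ := Ideal.Quotient.mk_surjective (π c)
        rw [AlgHom.comp_apply, AlgHom.comp_apply, ← hb]
        exact hγ₀ c b hb.symm
      have hl₀ : (tMap sq.str γ₀ ≫ Λ) ≫ f = tBase sq.str (D ⧸ J) ≫ sq.bot := by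
        rw [Category.assoc, hΛ₂, ← Category.assoc, tMap_base]
      have hres : tMap sq.str (Ideal.Quotient.factorₐ sq.A hJ) ≫ tMap sq.str γ₀ ≫ Λ = tMap sq.str a ≫ sq.top := by
        rw [← tMap_comp_assoc, ha, tMap_comp_assoc, hΛ₁]
      obtain ⟨l, hl₁, hl₂⟩ := H j D ν J J' hJ hJ' a _ hl₀ hres
      have hfac : (Ideal.Quotient.factorₐ sq.A hJ).comp (Ideal.Quotient.mkₐ sq.A J) = Ideal.Quotient.mkₐ sq.A J' :=
        AlgHom.ext fun x => rfl
      obtain ⟨γ, ⟨hγ₁, hγ₂⟩, -⟩ := hU D (D ⧸ J') (Ideal.Quotient.mkₐ sq.A J') Ideal.Quotient.mk_surjective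
        (by change RingHom.ker (Ideal.Quotient.mk J') ^ 2 = ⊥; rw [Ideal.mk_ker]; exact hJ') a l hl₂
        (by rw [← hfac, tMap_comp_assoc, hl₁, hres])
      refine ⟨γ, ?_⟩
      refine (hU (D ⧸ J) (D ⧸ J') (Ideal.Quotient.factorₐ sq.A hJ) (Ideal.Quotient.factor_surjective hJ) ?_ a
        (tMap sq.str γ₀ ≫ Λ) hl₀ hres).unique ⟨?_, ?_⟩ ⟨ha, rfl⟩
      · refine eq_bot_iff.2 ((Ideal.pow_right_mono (J := J'.map (Ideal.Quotient.mk J)) (fun x hx => ?_) 2).trans ?_)
        · obtain ⟨x, rfl⟩ := Ideal.Quotient.mk_surjective x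
          exact Ideal.mem_map_of_mem _ (Ideal.Quotient.eq_zero_iff_mem.1 hx)
        · rw [← Ideal.map_pow, hJ', Ideal.map_bot]
      · rw [← AlgHom.comp_assoc, hfac, hγ₁]
      · rw [tMap_comp_assoc, hγ₂, hl₁]
  let c : Over.mk sq.str ⟶ tOb sq.str sq.A := Over.homMk (𝟙 _) (by simp)
  have hc : (yon S).map c ≫ tBase sq.str sq.A = 𝟙 _ :=
    ((yon S).map_comp _ _).symm.trans ((congrArg (fun k => (yon S).map k)
      (Over.OverMorphism.ext (by simp [c]))).trans ((yon S).map_id _))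
  have hj : (yon S).map sq.j ≫ (yon S).map c = tMap sq.str (Ideal.Quotient.mkₐ sq.A sq.I) :=
    ((yon S).map_comp _ _).symm.trans (congrArg (fun k => (yon S).map k) (Over.OverMorphism.ext (Category.comp_id _)))
  refine ⟨(yon S).map c ≫ tMap sq.str r ≫ Λ, ?_, ?_⟩
  · rw [reassoc_of% hj, ← tMap_comp_assoc, hr, hΛ₁]
  · rw [Category.assoc, Category.assoc, hΛ₂, ← Category.assoc (tMap sq.str r), tMap_base, reassoc_of% hc]

end Groth.Agent.UFO
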